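import Cfsg.Agent.Lib.H35.TCM22B.Data
import Cfsg.Agent.Lib.H35.TCIdx
set_option autoImplicit false
set_option maxRecDepth 100000
set_option linter.all false
namespace H35.TCM22B
open H35.TC
/-- letters -/
inductive Lt | a | ai | b | bi | d | di | z
  deriving DecidableEq
/-- inverse letter -/
def inv : Lt → Lt
  | .a => .ai
  | .ai => .a
  | .b => .bi
  | .bi => .b
  | .d => .di
  | .di => .d
  | .z => .z
/-- table functions -/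
noncomputable def T : Lt → ℕ → ℕ
  | .a => T_a
  | .ai => T_ai
  | .b => T_b
  | .bi => T_bi
  | .d => T_d
  | .di => T_di
  | .z => T_z
/-- decoding of letter codes -/
def lt : ℕ → Lt
  | 0 => .a
  | 1 => .ai
  | 2 => .b
  | 3 => .bi
  | 4 => .d
  | 5 => .di
  | _ => .z
/-- Coxeter matrix (0: no relation) -/
def mm : Lt → Lt → ℕ
  | .z, .z => 1
  | _, _ => 0
/-- extra relators `w ^ n` -/
def extra : List (List Lt × ℕ) := [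
  ([.d], 3),
  ([.b], 3),
  ([.z, .a, .z, .ai], 1),
  ([.z, .b, .z, .bi], 1),
  ([.z, .d, .z, .di], 1),
  ([.a, .b], 3),
  ([.a, .a, .b, .ai, .b, .ai, .bi, .a, .bi], 1),
  ([.a, .a, .d, .a, .bi, .d, .bi, .di, .bi, .ai, .b, .z], 1),
  ([.d, .a, .d, .bi, .ai, .d, .a, .b, .di, .ai, .di, .a, .b], 1),
  ([.d, .b, .a, .bi, .d, .bi, .di, .b, .ai, .bi, .di, .a, .b, .ai, .b], 1),
  ([.a, .a, .a, .b, .d, .a, .a, .a, .b, .di, .bi, .ai, .ai, .ai, .di], 1),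
  ([.a, .ai], 1),
  ([.ai, .a], 1),
  ([.b, .bi], 1),
  ([.bi, .b], 1),
  ([.d, .di], 1),
  ([.di, .d], 1)]
/-- relators -/
def rels : List (List Lt) := mkRels [(.z, .z)] mm extra
/-- subgroup words -/
def subs : List (List Lt) := [
  [.a],
  [.b]]
noncomputable def dp_a_0 (j u : ℕ) : Bool :=
  Bool.rec (motive := fun _ => Bool) (lS MG [T_ai] M (Nat.sub (T_a u) (Nat.mod (T_a u) M)) (nat_lit 40) (Nat.mod (T_a u) M) u) (lF [T_b, T_a, T_b, T_a, T_b] M (Nat.sub (T_a u) (Nat.mod (T_a u) M)) (Nat.mod (T_a u) M) u) (Nat.ble (nat_lit 5) j)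
noncomputable def dp_a_1 (j u : ℕ) : Bool :=
  Bool.rec (motive := fun _ => Bool) (lF [T_a, T_b, T_ai, T_b, T_ai, T_bi, T_a, T_bi] M (Nat.sub (T_a u) (Nat.mod (T_a u) M)) (Nat.mod (T_a u) M) u) (lS MG [T_z, T_ai, T_z] M (Nat.sub (T_a u) (Nat.mod (T_a u) M)) (nat_lit 40) (Nat.mod (T_a u) M) u) (Nat.ble (nat_lit 7) j)
noncomputable def dp_a_2 (j u : ℕ) : Bool :=
  Bool.rec (motive := fun _ => Bool) (lF [T_b, T_ai, T_b, T_ai, T_bi, T_a, T_bi, T_a] M (Nat.sub (T_a u) (Nat.mod (T_a u) M)) (Nat.mod (T_a u) M) u) (lS MG [T_b, T_a, T_b, T_a, T_b] M (Nat.sub (T_a u) (Nat.mod (T_a u) M)) (nat_lit 40) (Nat.mod (T_a u) M) u) (Nat.ble (nat_lit 9) j)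
noncomputable def dp_a_3 (j u : ℕ) : Bool :=
  Bool.rec (motive := fun _ => Bool) (lS MG [T_bi, T_d, T_bi, T_di, T_bi, T_ai, T_b, T_z, T_a, T_a, T_d] M (Nat.sub (T_a u) (Nat.mod (T_a u) M)) (nat_lit 40) (Nat.mod (T_a u) M) u) (lF [T_bi, T_a, T_a, T_b, T_ai, T_b, T_ai, T_bi] M (Nat.sub (T_a u) (Nat.mod (T_a u) M)) (Nat.mod (T_a u) M) u) (Nat.ble (nat_lit 11) j)
noncomputable def dp_a_4 (j u : ℕ) : Bool :=
  Bool.rec (motive := fun _ => Bool) (dp_a_2 j u) (dp_a_3 j u) (Nat.ble (nat_lit 10) j)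
noncomputable def dp_a_5 (j u : ℕ) : Bool :=
  Bool.rec (motive := fun _ => Bool) (dp_a_1 j u) (dp_a_4 j u) (Nat.ble (nat_lit 8) j)
noncomputable def dp_a_6 (j u : ℕ) : Bool :=
  Bool.rec (motive := fun _ => Bool) (lS MG [T_a, T_b, T_ai, T_b, T_ai, T_bi, T_a, T_bi] M (Nat.sub (T_a u) (Nat.mod (T_a u) M)) (nat_lit 40) (Nat.mod (T_a u) M) u) (lS MG [T_b, T_ai, T_b, T_ai, T_bi, T_a, T_bi, T_a] M (Nat.sub (T_a u) (Nat.mod (T_a u) M)) (nat_lit 40) (Nat.mod (T_a u) M) u) (Nat.ble (nat_lit 14) j)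
noncomputable def dp_a_7 (j u : ℕ) : Bool :=
  Bool.rec (motive := fun _ => Bool) (lF [T_bi, T_d, T_bi, T_di, T_bi, T_ai, T_b, T_z, T_a, T_a, T_d] M (Nat.sub (T_a u) (Nat.mod (T_a u) M)) (Nat.mod (T_a u) M) u) (dp_a_6 j u) (Nat.ble (nat_lit 13) j)
noncomputable def dp_a_8 (j u : ℕ) : Bool :=
  Bool.rec (motive := fun _ => Bool) (lS MG [T_d, T_a, T_bi, T_d, T_bi, T_di, T_bi, T_ai, T_b, T_z, T_a] M (Nat.sub (T_a u) (Nat.mod (T_a u) M)) (nat_lit 40) (Nat.mod (T_a u) M) u) (lF [T_d, T_a, T_bi, T_d, T_bi, T_di, T_bi, T_ai, T_b, T_z, T_a] M (Nat.sub (T_a u) (Nat.mod (T_a u) M)) (Nat.mod (T_a u) M) u) (Nat.ble (nat_lit 17) j)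
noncomputable def dp_a_9 (j u : ℕ) : Bool :=
  Bool.rec (motive := fun _ => Bool) (lF [T_bi, T_ai, T_ai, T_b, T_ai, T_b, T_a, T_bi] M (Nat.sub (T_a u) (Nat.mod (T_a u) M)) (Nat.mod (T_a u) M) u) (dp_a_8 j u) (Nat.ble (nat_lit 16) j)
noncomputable def dp_a_10 (j u : ℕ) : Bool :=
  Bool.rec (motive := fun _ => Bool) (dp_a_7 j u) (dp_a_9 j u) (Nat.ble (nat_lit 15) j)
noncomputable def dp_a_11 (j u : ℕ) : Bool :=
  Bool.rec (motive := fun _ => Bool) (lS MG [T_bi, T_a, T_a, T_b, T_ai, T_b, T_ai, T_bi] M (Nat.sub (T_a u) (Nat.mod (T_a u) M)) (nat_lit 40) (Nat.mod (T_a u) M) u) (lF [T_bi, T_a, T_bi, T_ai, T_ai, T_b, T_ai, T_b] M (Nat.sub (T_a u) (Nat.mod (T_a u) M)) (Nat.mod (T_a u) M) u) (Nat.ble (nat_lit 19) j)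
noncomputable def dp_a_12 (j u : ℕ) : Bool :=
  Bool.rec (motive := fun _ => Bool) (lS MG [T_a, T_d, T_a, T_bi, T_d, T_bi, T_di, T_bi, T_ai, T_b, T_z] M (Nat.sub (T_a u) (Nat.mod (T_a u) M)) (nat_lit 40) (Nat.mod (T_a u) M) u) (lF [T_a, T_d, T_a, T_bi, T_d, T_bi, T_di, T_bi, T_ai, T_b, T_z] M (Nat.sub (T_a u) (Nat.mod (T_a u) M)) (Nat.mod (T_a u) M) u) (Nat.ble (nat_lit 22) j)
noncomputable def dp_a_13 (j u : ℕ) : Bool :=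
  Bool.rec (motive := fun _ => Bool) (lS MG [T_bi, T_ai, T_ai, T_b, T_ai, T_b, T_a, T_bi] M (Nat.sub (T_a u) (Nat.mod (T_a u) M)) (nat_lit 40) (Nat.mod (T_a u) M) u) (dp_a_12 j u) (Nat.ble (nat_lit 21) j)
noncomputable def dp_a_14 (j u : ℕ) : Bool :=
  Bool.rec (motive := fun _ => Bool) (dp_a_11 j u) (dp_a_13 j u) (Nat.ble (nat_lit 20) j)
noncomputable def dp_a_15 (j u : ℕ) : Bool :=
  Bool.rec (motive := fun _ => Bool) (lS MG [T_b, T_d, T_b, T_di, T_b, T_ai, T_di, T_ai, T_ai, T_z, T_bi] M (Nat.sub (T_a u) (Nat.mod (T_a u) M)) (nat_lit 40) (Nat.mod (T_a u) M) u) (lS MG [T_b, T_di, T_ai, T_di, T_bi, T_ai, T_d, T_a, T_d, T_bi, T_ai, T_di] M (Nat.sub (T_a u) (Nat.mod (T_a u) M)) (nat_lit 40) (Nat.mod (T_a u) M) u) (Nat.ble (nat_lit 24) j)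
noncomputable def dp_a_16 (j u : ℕ) : Bool :=
  Bool.rec (motive := fun _ => Bool) (lS MG [T_d, T_bi, T_ai, T_d, T_a, T_b, T_di, T_ai, T_di, T_a, T_b, T_d] M (Nat.sub (T_a u) (Nat.mod (T_a u) M)) (nat_lit 40) (Nat.mod (T_a u) M) u) (lS MG [T_d, T_bi, T_ai, T_di, T_a, T_b, T_di, T_ai, T_di, T_bi, T_ai, T_d] M (Nat.sub (T_a u) (Nat.mod (T_a u) M)) (nat_lit 40) (Nat.mod (T_a u) M) u) (Nat.ble (nat_lit 27) j)
noncomputable def dp_a_17 (j u : ℕ) : Bool :=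
  Bool.rec (motive := fun _ => Bool) (lS MG [T_bi, T_a, T_bi, T_ai, T_ai, T_b, T_ai, T_b] M (Nat.sub (T_a u) (Nat.mod (T_a u) M)) (nat_lit 40) (Nat.mod (T_a u) M) u) (dp_a_16 j u) (Nat.ble (nat_lit 26) j)
noncomputable def dp_a_18 (j u : ℕ) : Bool :=
  Bool.rec (motive := fun _ => Bool) (dp_a_15 j u) (dp_a_17 j u) (Nat.ble (nat_lit 25) j)
noncomputable def dp_a_19 (j u : ℕ) : Bool :=
  Bool.rec (motive := fun _ => Bool) (lS MG [T_b, T_d, T_a, T_d, T_bi, T_ai, T_d, T_a, T_b, T_di, T_ai, T_di] M (Nat.sub (T_a u) (Nat.mod (T_a u) M)) (nat_lit 40) (Nat.mod (T_a u) M) u) (lS MG [T_b, T_ai, T_b, T_d, T_b, T_a, T_bi, T_d, T_bi, T_di, T_b, T_ai, T_bi, T_di] M (Nat.sub (T_a u) (Nat.mod (T_a u) M)) (nat_lit 40) (Nat.mod (T_a u) M) u) (Nat.ble (nat_lit 29) j)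
noncomputable def dp_a_20 (j u : ℕ) : Bool :=
  Bool.rec (motive := fun _ => Bool) (lS MG [T_bi, T_d, T_b, T_di, T_b, T_ai, T_bi, T_di, T_bi, T_a, T_bi, T_ai, T_d, T_b] M (Nat.sub (T_a u) (Nat.mod (T_a u) M)) (nat_lit 40) (Nat.mod (T_a u) M) u) (lS MG [T_a, T_b, T_di, T_bi, T_ai, T_ai, T_ai, T_di, T_a, T_a, T_a, T_b, T_d, T_a] M (Nat.sub (T_a u) (Nat.mod (T_a u) M)) (nat_lit 40) (Nat.mod (T_a u) M) u) (Nat.ble (nat_lit 32) j)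
noncomputable def dp_a_21 (j u : ℕ) : Bool :=
  Bool.rec (motive := fun _ => Bool) (lF [T_d, T_bi, T_ai, T_d, T_a, T_b, T_di, T_ai, T_di, T_a, T_b, T_d] M (Nat.sub (T_a u) (Nat.mod (T_a u) M)) (Nat.mod (T_a u) M) u) (dp_a_20 j u) (Nat.ble (nat_lit 31) j)
noncomputable def dp_a_22 (j u : ℕ) : Bool :=
  Bool.rec (motive := fun _ => Bool) (dp_a_19 j u) (dp_a_21 j u) (Nat.ble (nat_lit 30) j)
noncomputable def dp_a_23 (j u : ℕ) : Bool :=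
  Bool.rec (motive := fun _ => Bool) (lS MG [T_b, T_di, T_bi, T_ai, T_ai, T_ai, T_di, T_a, T_a, T_a, T_b, T_d, T_a, T_a] M (Nat.sub (T_a u) (Nat.mod (T_a u) M)) (nat_lit 40) (Nat.mod (T_a u) M) u) (lF [T_b, T_ai, T_b, T_d, T_b, T_a, T_bi, T_d, T_bi, T_di, T_b, T_ai, T_bi, T_di] M (Nat.sub (T_a u) (Nat.mod (T_a u) M)) (Nat.mod (T_a u) M) u) (Nat.ble (nat_lit 37) j)
noncomputable def dp_a_24 (j u : ℕ) : Bool :=
  Bool.rec (motive := fun _ => Bool) (lH [] [] M (Nat.sub (T_a u) (Nat.mod (T_a u) M)) (Nat.mod (T_a u) M) u) (dp_a_23 j u) (Nat.ble (nat_lit 36) j)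
noncomputable def dp_a_25 (j u : ℕ) : Bool :=
  Bool.rec (motive := fun _ => Bool) (lS MG [T_a, T_a, T_b, T_d, T_a, T_a, T_a, T_b, T_di, T_bi, T_ai, T_ai, T_ai, T_di] M (Nat.sub (T_a u) (Nat.mod (T_a u) M)) (nat_lit 40) (Nat.mod (T_a u) M) u) (dp_a_24 j u) (Nat.ble (nat_lit 35) j)
noncomputable def dp_a_26 (j u : ℕ) : Bool :=
  Bool.rec (motive := fun _ => Bool) (lF [T_b, T_d, T_b, T_di, T_b, T_ai, T_di, T_ai, T_ai, T_z, T_bi] M (Nat.sub (T_a u) (Nat.mod (T_a u) M)) (Nat.mod (T_a u) M) u) (dp_a_25 j u) (Nat.ble (nat_lit 34) j)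
noncomputable def dp_a_27 (j u : ℕ) : Bool :=
  Bool.rec (motive := fun _ => Bool) (lS MG [T_b, T_d, T_a, T_a, T_a, T_b, T_di, T_bi, T_ai, T_ai, T_ai, T_di, T_a, T_a] M (Nat.sub (T_a u) (Nat.mod (T_a u) M)) (nat_lit 40) (Nat.mod (T_a u) M) u) (lF [T_b, T_di, T_ai, T_di, T_bi, T_ai, T_d, T_a, T_d, T_bi, T_ai, T_di] M (Nat.sub (T_a u) (Nat.mod (T_a u) M)) (Nat.mod (T_a u) M) u) (Nat.ble (nat_lit 39) j)
noncomputable def dp_a_28 (j u : ℕ) : Bool :=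
  Bool.rec (motive := fun _ => Bool) (lS MG [T_bi, T_d, T_bi, T_di, T_b, T_ai, T_bi, T_di, T_a, T_b, T_ai, T_b, T_d, T_b] M (Nat.sub (T_a u) (Nat.mod (T_a u) M)) (nat_lit 40) (Nat.mod (T_a u) M) u) (lS MG [T_b, T_di, T_ai, T_di, T_a, T_b, T_d, T_a, T_d, T_bi, T_ai, T_d] M (Nat.sub (T_a u) (Nat.mod (T_a u) M)) (nat_lit 40) (Nat.mod (T_a u) M) u) (Nat.ble (nat_lit 41) j)
noncomputable def dp_a_29 (j u : ℕ) : Bool :=
  Bool.rec (motive := fun _ => Bool) (dp_a_27 j u) (dp_a_28 j u) (Nat.ble (nat_lit 40) j)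
noncomputable def dp_a_30 (j u : ℕ) : Bool :=
  Bool.rec (motive := fun _ => Bool) (lF [T_a, T_b, T_d, T_a, T_a, T_a, T_b, T_di, T_bi, T_ai, T_ai, T_ai, T_di, T_a] M (Nat.sub (T_a u) (Nat.mod (T_a u) M)) (Nat.mod (T_a u) M) u) (lF [T_a, T_b, T_d, T_bi, T_ai, T_ai, T_ai, T_di, T_bi, T_ai, T_ai, T_ai, T_d, T_a] M (Nat.sub (T_a u) (Nat.mod (T_a u) M)) (Nat.mod (T_a u) M) u) (Nat.ble (nat_lit 43) j)
noncomputable def dp_a_31 (j u : ℕ) : Bool :=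
  Bool.rec (motive := fun _ => Bool) (lF [T_b, T_d, T_bi, T_ai, T_ai, T_ai, T_di, T_bi, T_ai, T_ai, T_ai, T_d, T_a, T_a] M (Nat.sub (T_a u) (Nat.mod (T_a u) M)) (Nat.mod (T_a u) M) u) (lF [T_b, T_d, T_a, T_d, T_bi, T_ai, T_d, T_a, T_b, T_di, T_ai, T_di] M (Nat.sub (T_a u) (Nat.mod (T_a u) M)) (Nat.mod (T_a u) M) u) (Nat.ble (nat_lit 45) j)
noncomputable def dp_a_32 (j u : ℕ) : Bool :=
  Bool.rec (motive := fun _ => Bool) (dp_a_30 j u) (dp_a_31 j u) (Nat.ble (nat_lit 44) j)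
noncomputable def dp_a_33 (j u : ℕ) : Bool :=
  Bool.rec (motive := fun _ => Bool) (dp_a_29 j u) (dp_a_32 j u) (Nat.ble (nat_lit 42) j)
noncomputable def dp_a_34 (j u : ℕ) : Bool :=
  Bool.rec (motive := fun _ => Bool) (dp_a_26 j u) (dp_a_33 j u) (Nat.ble (nat_lit 38) j)
noncomputable def dp_a_35 (j u : ℕ) : Bool :=
  Bool.rec (motive := fun _ => Bool) (dp_a_22 j u) (dp_a_34 j u) (Nat.ble (nat_lit 33) j)
noncomputable def dp_a_36 (j u : ℕ) : Bool :=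
  Bool.rec (motive := fun _ => Bool) (dp_a_18 j u) (dp_a_35 j u) (Nat.ble (nat_lit 28) j)
noncomputable def dp_a_37 (j u : ℕ) : Bool :=
  Bool.rec (motive := fun _ => Bool) (dp_a_14 j u) (dp_a_36 j u) (Nat.ble (nat_lit 23) j)
noncomputable def dp_a_38 (j u : ℕ) : Bool :=
  Bool.rec (motive := fun _ => Bool) (dp_a_10 j u) (dp_a_37 j u) (Nat.ble (nat_lit 18) j)
noncomputable def dp_a_39 (j u : ℕ) : Bool :=
  Bool.rec (motive := fun _ => Bool) (dp_a_5 j u) (dp_a_38 j u) (Nat.ble (nat_lit 12) j)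
noncomputable def dp_a_40 (j u : ℕ) : Bool :=
  Bool.rec (motive := fun _ => Bool) (dp_a_0 j u) (dp_a_39 j u) (Nat.ble (nat_lit 6) j)
noncomputable def dp_a_41 (j u : ℕ) : Bool :=
  Bool.rec (motive := fun _ => Bool) (lF3 T_z T_ai T_z M (Nat.sub (T_a u) (Nat.mod (T_a u) M)) (Nat.mod (T_a u) M) u) (dp_a_40 j u) (Nat.ble (nat_lit 4) j)
noncomputable def disp_a (j u : ℕ) : Bool :=
  Bool.rec (motive := fun _ => Bool) (Bool.rec (motive := fun _ => Bool) (lF1 T_ai M (Nat.sub (T_a u) (Nat.mod (T_a u) M)) (Nat.mod (T_a u) M) u) (lDef P (nat_lit 1) u (Nat.mod (T_a u) M)) (Nat.ble (nat_lit 1) j)) (Bool.rec (motive := fun _ => Bool) (lDef P (nat_lit 0) (Nat.mod (T_a u) M) u) (dp_a_41 j u) (Nat.ble (nat_lit 3) j)) (Nat.ble (nat_lit 2) j)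
noncomputable def chk_a (j u : ℕ) : Bool :=
  Bool.rec (motive := fun _ => Bool) (disp_a j u) (Nat.ble (Nat.succ (MG u)) A) (Nat.ble A (T_a u))
noncomputable def dp_ai_0 (j u : ℕ) : Bool :=
  Bool.rec (motive := fun _ => Bool) (lF [T_bi, T_ai, T_bi, T_ai, T_bi] M (Nat.sub (T_ai u) (Nat.mod (T_ai u) M)) (Nat.mod (T_ai u) M) u) (lS MG [T_z, T_a, T_z] M (Nat.sub (T_ai u) (Nat.mod (T_ai u) M)) (nat_lit 40) (Nat.mod (T_ai u) M) u) (Nat.ble (nat_lit 6) j)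
noncomputable def dp_ai_1 (j u : ℕ) : Bool :=
  Bool.rec (motive := fun _ => Bool) (lS MG [T_a] M (Nat.sub (T_ai u) (Nat.mod (T_ai u) M)) (nat_lit 40) (Nat.mod (T_ai u) M) u) (dp_ai_0 j u) (Nat.ble (nat_lit 5) j)
noncomputable def dp_ai_2 (j u : ℕ) : Bool :=
  Bool.rec (motive := fun _ => Bool) (lF [T_ai, T_b, T_ai, T_b, T_a, T_bi, T_a, T_bi] M (Nat.sub (T_ai u) (Nat.mod (T_ai u) M)) (Nat.mod (T_ai u) M) u) (lF [T_b, T_ai, T_b, T_a, T_bi, T_a, T_bi, T_ai] M (Nat.sub (T_ai u) (Nat.mod (T_ai u) M)) (Nat.mod (T_ai u) M) u) (Nat.ble (nat_lit 8) j)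
noncomputable def dp_ai_3 (j u : ℕ) : Bool :=
  Bool.rec (motive := fun _ => Bool) (lF [T_di, T_ai, T_ai, T_z, T_bi, T_a, T_b, T_d, T_b, T_di, T_b] M (Nat.sub (T_ai u) (Nat.mod (T_ai u) M)) (Nat.mod (T_ai u) M) u) (lS MG [T_di, T_ai, T_ai, T_z, T_bi, T_a, T_b, T_d, T_b, T_di, T_b] M (Nat.sub (T_ai u) (Nat.mod (T_ai u) M)) (nat_lit 40) (Nat.mod (T_ai u) M) u) (Nat.ble (nat_lit 10) j)
noncomputable def dp_ai_4 (j u : ℕ) : Bool :=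
  Bool.rec (motive := fun _ => Bool) (lS MG [T_bi, T_ai, T_bi, T_ai, T_bi] M (Nat.sub (T_ai u) (Nat.mod (T_ai u) M)) (nat_lit 40) (Nat.mod (T_ai u) M) u) (lF [T_b, T_ai, T_bi, T_a, T_bi, T_a, T_a, T_b] M (Nat.sub (T_ai u) (Nat.mod (T_ai u) M)) (Nat.mod (T_ai u) M) u) (Nat.ble (nat_lit 12) j)
noncomputable def dp_ai_5 (j u : ℕ) : Bool :=
  Bool.rec (motive := fun _ => Bool) (dp_ai_3 j u) (dp_ai_4 j u) (Nat.ble (nat_lit 11) j)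
noncomputable def dp_ai_6 (j u : ℕ) : Bool :=
  Bool.rec (motive := fun _ => Bool) (dp_ai_2 j u) (dp_ai_5 j u) (Nat.ble (nat_lit 9) j)
noncomputable def dp_ai_7 (j u : ℕ) : Bool :=
  Bool.rec (motive := fun _ => Bool) (lF [T_b, T_a, T_bi, T_a, T_bi, T_ai, T_ai, T_b] M (Nat.sub (T_ai u) (Nat.mod (T_ai u) M)) (Nat.mod (T_ai u) M) u) (lF [T_ai, T_z, T_bi, T_a, T_b, T_d, T_b, T_di, T_b, T_ai, T_di] M (Nat.sub (T_ai u) (Nat.mod (T_ai u) M)) (Nat.mod (T_ai u) M) u) (Nat.ble (nat_lit 15) j)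
noncomputable def dp_ai_8 (j u : ℕ) : Bool :=
  Bool.rec (motive := fun _ => Bool) (lF [T_bi, T_a, T_bi, T_a, T_a, T_b, T_ai, T_b] M (Nat.sub (T_ai u) (Nat.mod (T_ai u) M)) (Nat.mod (T_ai u) M) u) (dp_ai_7 j u) (Nat.ble (nat_lit 14) j)
noncomputable def dp_ai_9 (j u : ℕ) : Bool :=
  Bool.rec (motive := fun _ => Bool) (lS MG [T_ai, T_b, T_ai, T_b, T_a, T_bi, T_a, T_bi] M (Nat.sub (T_ai u) (Nat.mod (T_ai u) M)) (nat_lit 40) (Nat.mod (T_ai u) M) u) (lS MG [T_b, T_ai, T_b, T_a, T_bi, T_a, T_bi, T_ai] M (Nat.sub (T_ai u) (Nat.mod (T_ai u) M)) (nat_lit 40) (Nat.mod (T_ai u) M) u) (Nat.ble (nat_lit 18) j)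
noncomputable def dp_ai_10 (j u : ℕ) : Bool :=
  Bool.rec (motive := fun _ => Bool) (lS MG [T_b, T_ai, T_bi, T_a, T_bi, T_a, T_a, T_b] M (Nat.sub (T_ai u) (Nat.mod (T_ai u) M)) (nat_lit 40) (Nat.mod (T_ai u) M) u) (dp_ai_9 j u) (Nat.ble (nat_lit 17) j)
noncomputable def dp_ai_11 (j u : ℕ) : Bool :=
  Bool.rec (motive := fun _ => Bool) (dp_ai_8 j u) (dp_ai_10 j u) (Nat.ble (nat_lit 16) j)
noncomputable def dp_ai_12 (j u : ℕ) : Bool :=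
  Bool.rec (motive := fun _ => Bool) (lS MG [T_b, T_a, T_bi, T_a, T_bi, T_ai, T_ai, T_b] M (Nat.sub (T_ai u) (Nat.mod (T_ai u) M)) (nat_lit 40) (Nat.mod (T_ai u) M) u) (lS MG [T_ai, T_z, T_bi, T_a, T_b, T_d, T_b, T_di, T_b, T_ai, T_di] M (Nat.sub (T_ai u) (Nat.mod (T_ai u) M)) (nat_lit 40) (Nat.mod (T_ai u) M) u) (Nat.ble (nat_lit 20) j)
noncomputable def dp_ai_13 (j u : ℕ) : Bool :=
  Bool.rec (motive := fun _ => Bool) (lF [T_z, T_bi, T_a, T_b, T_d, T_b, T_di, T_b, T_ai, T_di, T_ai] M (Nat.sub (T_ai u) (Nat.mod (T_ai u) M)) (Nat.mod (T_ai u) M) u) (lF [T_b, T_z, T_a, T_a, T_d, T_a, T_bi, T_d, T_bi, T_di, T_bi] M (Nat.sub (T_ai u) (Nat.mod (T_ai u) M)) (Nat.mod (T_ai u) M) u) (Nat.ble (nat_lit 23) j)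
noncomputable def dp_ai_14 (j u : ℕ) : Bool :=
  Bool.rec (motive := fun _ => Bool) (lS MG [T_bi, T_a, T_bi, T_a, T_a, T_b, T_ai, T_b] M (Nat.sub (T_ai u) (Nat.mod (T_ai u) M)) (nat_lit 40) (Nat.mod (T_ai u) M) u) (dp_ai_13 j u) (Nat.ble (nat_lit 22) j)
noncomputable def dp_ai_15 (j u : ℕ) : Bool :=
  Bool.rec (motive := fun _ => Bool) (dp_ai_12 j u) (dp_ai_14 j u) (Nat.ble (nat_lit 21) j)
noncomputable def dp_ai_16 (j u : ℕ) : Bool :=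
  Bool.rec (motive := fun _ => Bool) (lS MG [T_b, T_z, T_a, T_a, T_d, T_a, T_bi, T_d, T_bi, T_di, T_bi] M (Nat.sub (T_ai u) (Nat.mod (T_ai u) M)) (nat_lit 40) (Nat.mod (T_ai u) M) u) (lF [T_di, T_a, T_b, T_d, T_a, T_d, T_bi, T_ai, T_d, T_a, T_b, T_di] M (Nat.sub (T_ai u) (Nat.mod (T_ai u) M)) (Nat.mod (T_ai u) M) u) (Nat.ble (nat_lit 25) j)
noncomputable def dp_ai_17 (j u : ℕ) : Bool :=
  Bool.rec (motive := fun _ => Bool) (lS MG [T_z, T_bi, T_a, T_b, T_d, T_b, T_di, T_b, T_ai, T_di, T_ai] M (Nat.sub (T_ai u) (Nat.mod (T_ai u) M)) (nat_lit 40) (Nat.mod (T_ai u) M) u) (lS MG [T_d, T_a, T_d, T_bi, T_ai, T_di, T_a, T_b, T_di, T_ai, T_di, T_bi] M (Nat.sub (T_ai u) (Nat.mod (T_ai u) M)) (nat_lit 40) (Nat.mod (T_ai u) M) u) (Nat.ble (nat_lit 27) j)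
noncomputable def dp_ai_18 (j u : ℕ) : Bool :=
  Bool.rec (motive := fun _ => Bool) (lS MG [T_di, T_bi, T_ai, T_d, T_a, T_d, T_bi, T_ai, T_di, T_a, T_b, T_di] M (Nat.sub (T_ai u) (Nat.mod (T_ai u) M)) (nat_lit 40) (Nat.mod (T_ai u) M) u) (lS MG [T_ai, T_ai, T_di, T_bi, T_ai, T_ai, T_ai, T_d, T_a, T_a, T_a, T_b, T_d, T_bi] M (Nat.sub (T_ai u) (Nat.mod (T_ai u) M)) (nat_lit 40) (Nat.mod (T_ai u) M) u) (Nat.ble (nat_lit 29) j)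
noncomputable def dp_ai_19 (j u : ℕ) : Bool :=
  Bool.rec (motive := fun _ => Bool) (dp_ai_17 j u) (dp_ai_18 j u) (Nat.ble (nat_lit 28) j)
noncomputable def dp_ai_20 (j u : ℕ) : Bool :=
  Bool.rec (motive := fun _ => Bool) (dp_ai_16 j u) (dp_ai_19 j u) (Nat.ble (nat_lit 26) j)
noncomputable def dp_ai_21 (j u : ℕ) : Bool :=
  Bool.rec (motive := fun _ => Bool) (lS MG [T_di, T_a, T_b, T_d, T_a, T_d, T_bi, T_ai, T_d, T_a, T_b, T_di] M (Nat.sub (T_ai u) (Nat.mod (T_ai u) M)) (nat_lit 40) (Nat.mod (T_ai u) M) u) (lF [T_di, T_bi, T_ai, T_d, T_a, T_d, T_bi, T_ai, T_di, T_a, T_b, T_di] M (Nat.sub (T_ai u) (Nat.mod (T_ai u) M)) (Nat.mod (T_ai u) M) u) (Nat.ble (nat_lit 31) j)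
noncomputable def dp_ai_22 (j u : ℕ) : Bool :=
  Bool.rec (motive := fun _ => Bool) (lF [T_di, T_a, T_b, T_di, T_ai, T_di, T_bi, T_ai, T_d, T_a, T_d, T_bi] M (Nat.sub (T_ai u) (Nat.mod (T_ai u) M)) (Nat.mod (T_ai u) M) u) (lS MG [T_ai, T_ai, T_d, T_a, T_a, T_a, T_b, T_d, T_bi, T_ai, T_ai, T_ai, T_di, T_bi] M (Nat.sub (T_ai u) (Nat.mod (T_ai u) M)) (nat_lit 40) (Nat.mod (T_ai u) M) u) (Nat.ble (nat_lit 34) j)
noncomputable def dp_ai_23 (j u : ℕ) : Bool :=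
  Bool.rec (motive := fun _ => Bool) (lS MG [T_d, T_a, T_b, T_di, T_ai, T_di, T_a, T_b, T_d, T_a, T_d, T_bi] M (Nat.sub (T_ai u) (Nat.mod (T_ai u) M)) (nat_lit 40) (Nat.mod (T_ai u) M) u) (dp_ai_22 j u) (Nat.ble (nat_lit 33) j)
noncomputable def dp_ai_24 (j u : ℕ) : Bool :=
  Bool.rec (motive := fun _ => Bool) (dp_ai_21 j u) (dp_ai_23 j u) (Nat.ble (nat_lit 32) j)
noncomputable def dp_ai_25 (j u : ℕ) : Bool :=
  Bool.rec (motive := fun _ => Bool) (lS MG [T_di, T_bi, T_ai, T_ai, T_ai, T_d, T_a, T_a, T_a, T_b, T_d, T_bi, T_ai, T_ai] M (Nat.sub (T_ai u) (Nat.mod (T_ai u) M)) (nat_lit 40) (Nat.mod (T_ai u) M) u) (lS MG [T_di, T_a, T_b, T_di, T_ai, T_di, T_bi, T_ai, T_d, T_a, T_d, T_bi] M (Nat.sub (T_ai u) (Nat.mod (T_ai u) M)) (nat_lit 40) (Nat.mod (T_ai u) M) u) (Nat.ble (nat_lit 36) j)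
noncomputable def dp_ai_26 (j u : ℕ) : Bool :=
  Bool.rec (motive := fun _ => Bool) (lS MG [T_ai, T_di, T_a, T_a, T_a, T_b, T_d, T_a, T_a, T_a, T_b, T_di, T_bi, T_ai] M (Nat.sub (T_ai u) (Nat.mod (T_ai u) M)) (nat_lit 40) (Nat.mod (T_ai u) M) u) (lS MG [T_ai, T_d, T_a, T_a, T_a, T_b, T_d, T_bi, T_ai, T_ai, T_ai, T_di, T_bi, T_ai] M (Nat.sub (T_ai u) (Nat.mod (T_ai u) M)) (nat_lit 40) (Nat.mod (T_ai u) M) u) (Nat.ble (nat_lit 40) j)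
noncomputable def dp_ai_27 (j u : ℕ) : Bool :=
  Bool.rec (motive := fun _ => Bool) (lS MG [T_ai, T_di, T_bi, T_ai, T_ai, T_ai, T_d, T_a, T_a, T_a, T_b, T_d, T_bi, T_ai] M (Nat.sub (T_ai u) (Nat.mod (T_ai u) M)) (nat_lit 40) (Nat.mod (T_ai u) M) u) (dp_ai_26 j u) (Nat.ble (nat_lit 39) j)
noncomputable def dp_ai_28 (j u : ℕ) : Bool :=
  Bool.rec (motive := fun _ => Bool) (lF [T_b, T_d, T_b, T_a, T_bi, T_d, T_bi, T_di, T_b, T_ai, T_bi, T_di, T_a, T_b] M (Nat.sub (T_ai u) (Nat.mod (T_ai u) M)) (Nat.mod (T_ai u) M) u) (dp_ai_27 j u) (Nat.ble (nat_lit 38) j)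
noncomputable def dp_ai_29 (j u : ℕ) : Bool :=
  Bool.rec (motive := fun _ => Bool) (dp_ai_25 j u) (dp_ai_28 j u) (Nat.ble (nat_lit 37) j)
noncomputable def dp_ai_30 (j u : ℕ) : Bool :=
  Bool.rec (motive := fun _ => Bool) (lF [T_ai, T_ai, T_d, T_a, T_a, T_a, T_b, T_d, T_bi, T_ai, T_ai, T_ai, T_di, T_bi] M (Nat.sub (T_ai u) (Nat.mod (T_ai u) M)) (Nat.mod (T_ai u) M) u) (lS MG [T_ai, T_ai, T_di, T_a, T_a, T_a, T_b, T_d, T_a, T_a, T_a, T_b, T_di, T_bi] M (Nat.sub (T_ai u) (Nat.mod (T_ai u) M)) (nat_lit 40) (Nat.mod (T_ai u) M) u) (Nat.ble (nat_lit 42) j)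
noncomputable def dp_ai_31 (j u : ℕ) : Bool :=
  Bool.rec (motive := fun _ => Bool) (lF [T_ai, T_ai, T_di, T_a, T_a, T_a, T_b, T_d, T_a, T_a, T_a, T_b, T_di, T_bi] M (Nat.sub (T_ai u) (Nat.mod (T_ai u) M)) (Nat.mod (T_ai u) M) u) (lF [T_d, T_a, T_b, T_di, T_ai, T_di, T_a, T_b, T_d, T_a, T_d, T_bi] M (Nat.sub (T_ai u) (Nat.mod (T_ai u) M)) (Nat.mod (T_ai u) M) u) (Nat.ble (nat_lit 44) j)
noncomputable def dp_ai_32 (j u : ℕ) : Bool :=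
  Bool.rec (motive := fun _ => Bool) (dp_ai_30 j u) (dp_ai_31 j u) (Nat.ble (nat_lit 43) j)
noncomputable def dp_ai_33 (j u : ℕ) : Bool :=
  Bool.rec (motive := fun _ => Bool) (lF [T_d, T_a, T_d, T_bi, T_ai, T_di, T_a, T_b, T_di, T_ai, T_di, T_bi] M (Nat.sub (T_ai u) (Nat.mod (T_ai u) M)) (Nat.mod (T_ai u) M) u) (lS MG [T_di, T_a, T_a, T_a, T_b, T_d, T_a, T_a, T_a, T_b, T_di, T_bi, T_ai, T_ai] M (Nat.sub (T_ai u) (Nat.mod (T_ai u) M)) (nat_lit 40) (Nat.mod (T_ai u) M) u) (Nat.ble (nat_lit 46) j)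
noncomputable def dp_ai_34 (j u : ℕ) : Bool :=
  Bool.rec (motive := fun _ => Bool) (lF [T_ai, T_ai, T_di, T_bi, T_ai, T_ai, T_ai, T_d, T_a, T_a, T_a, T_b, T_d, T_bi] M (Nat.sub (T_ai u) (Nat.mod (T_ai u) M)) (Nat.mod (T_ai u) M) u) (lS MG [T_b, T_d, T_b, T_a, T_bi, T_d, T_bi, T_di, T_b, T_ai, T_bi, T_di, T_a, T_b] M (Nat.sub (T_ai u) (Nat.mod (T_ai u) M)) (nat_lit 40) (Nat.mod (T_ai u) M) u) (Nat.ble (nat_lit 49) j)
noncomputable def dp_ai_35 (j u : ℕ) : Bool :=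
  Bool.rec (motive := fun _ => Bool) (lF [T_di, T_a, T_a, T_a, T_b, T_d, T_a, T_a, T_a, T_b, T_di, T_bi, T_ai, T_ai] M (Nat.sub (T_ai u) (Nat.mod (T_ai u) M)) (Nat.mod (T_ai u) M) u) (dp_ai_34 j u) (Nat.ble (nat_lit 48) j)
noncomputable def dp_ai_36 (j u : ℕ) : Bool :=
  Bool.rec (motive := fun _ => Bool) (dp_ai_33 j u) (dp_ai_35 j u) (Nat.ble (nat_lit 47) j)
noncomputable def dp_ai_37 (j u : ℕ) : Bool :=
  Bool.rec (motive := fun _ => Bool) (dp_ai_32 j u) (dp_ai_36 j u) (Nat.ble (nat_lit 45) j)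
noncomputable def dp_ai_38 (j u : ℕ) : Bool :=
  Bool.rec (motive := fun _ => Bool) (dp_ai_29 j u) (dp_ai_37 j u) (Nat.ble (nat_lit 41) j)
noncomputable def dp_ai_39 (j u : ℕ) : Bool :=
  Bool.rec (motive := fun _ => Bool) (dp_ai_24 j u) (dp_ai_38 j u) (Nat.ble (nat_lit 35) j)
noncomputable def dp_ai_40 (j u : ℕ) : Bool :=
  Bool.rec (motive := fun _ => Bool) (dp_ai_20 j u) (dp_ai_39 j u) (Nat.ble (nat_lit 30) j)
noncomputable def dp_ai_41 (j u : ℕ) : Bool :=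
  Bool.rec (motive := fun _ => Bool) (dp_ai_15 j u) (dp_ai_40 j u) (Nat.ble (nat_lit 24) j)
noncomputable def dp_ai_42 (j u : ℕ) : Bool :=
  Bool.rec (motive := fun _ => Bool) (dp_ai_11 j u) (dp_ai_41 j u) (Nat.ble (nat_lit 19) j)
noncomputable def dp_ai_43 (j u : ℕ) : Bool :=
  Bool.rec (motive := fun _ => Bool) (dp_ai_6 j u) (dp_ai_42 j u) (Nat.ble (nat_lit 13) j)
noncomputable def dp_ai_44 (j u : ℕ) : Bool :=
  Bool.rec (motive := fun _ => Bool) (dp_ai_1 j u) (dp_ai_43 j u) (Nat.ble (nat_lit 7) j)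
noncomputable def disp_ai (j u : ℕ) : Bool :=
  Bool.rec (motive := fun _ => Bool) (Bool.rec (motive := fun _ => Bool) (lF1 T_a M (Nat.sub (T_ai u) (Nat.mod (T_ai u) M)) (Nat.mod (T_ai u) M) u) (lDef P (nat_lit 1) (Nat.mod (T_ai u) M) u) (Nat.ble (nat_lit 1) j)) (Bool.rec (motive := fun _ => Bool) (Bool.rec (motive := fun _ => Bool) (lDef P (nat_lit 0) u (Nat.mod (T_ai u) M)) (lF3 T_z T_a T_z M (Nat.sub (T_ai u) (Nat.mod (T_ai u) M)) (Nat.mod (T_ai u) M) u) (Nat.ble (nat_lit 3) j)) (dp_ai_44 j u) (Nat.ble (nat_lit 4) j)) (Nat.ble (nat_lit 2) j)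
noncomputable def chk_ai (j u : ℕ) : Bool :=
  Bool.rec (motive := fun _ => Bool) (disp_ai j u) (Nat.ble (Nat.succ (MG u)) A) (Nat.ble A (T_ai u))
noncomputable def dp_b_0 (j u : ℕ) : Bool :=
  Bool.rec (motive := fun _ => Bool) (lS MG [T_bi] M (Nat.sub (T_b u) (Nat.mod (T_b u) M)) (nat_lit 40) (Nat.mod (T_b u) M) u) (lF [T_a, T_b, T_a, T_b, T_a] M (Nat.sub (T_b u) (Nat.mod (T_b u) M)) (Nat.mod (T_b u) M) u) (Nat.ble (nat_lit 6) j)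
noncomputable def dp_b_1 (j u : ℕ) : Bool :=
  Bool.rec (motive := fun _ => Bool) (lF [T_di, T_b, T_ai, T_di, T_ai, T_ai, T_z, T_bi, T_a, T_b, T_d] M (Nat.sub (T_b u) (Nat.mod (T_b u) M)) (Nat.mod (T_b u) M) u) (lS MG [T_di, T_b, T_ai, T_di, T_ai, T_ai, T_z, T_bi, T_a, T_b, T_d] M (Nat.sub (T_b u) (Nat.mod (T_b u) M)) (nat_lit 40) (Nat.mod (T_b u) M) u) (Nat.ble (nat_lit 8) j)
noncomputable def dp_b_2 (j u : ℕ) : Bool :=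
  Bool.rec (motive := fun _ => Bool) (lS MG [T_ai, T_di, T_ai, T_ai, T_z, T_bi, T_a, T_b, T_d, T_b, T_di] M (Nat.sub (T_b u) (Nat.mod (T_b u) M)) (nat_lit 40) (Nat.mod (T_b u) M) u) (lF [T_ai, T_b, T_ai, T_bi, T_a, T_bi, T_a, T_a] M (Nat.sub (T_b u) (Nat.mod (T_b u) M)) (Nat.mod (T_b u) M) u) (Nat.ble (nat_lit 11) j)
noncomputable def dp_b_3 (j u : ℕ) : Bool :=
  Bool.rec (motive := fun _ => Bool) (lF [T_ai, T_di, T_ai, T_ai, T_z, T_bi, T_a, T_b, T_d, T_b, T_di] M (Nat.sub (T_b u) (Nat.mod (T_b u) M)) (Nat.mod (T_b u) M) u) (dp_b_2 j u) (Nat.ble (nat_lit 10) j)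
noncomputable def dp_b_4 (j u : ℕ) : Bool :=
  Bool.rec (motive := fun _ => Bool) (dp_b_1 j u) (dp_b_3 j u) (Nat.ble (nat_lit 9) j)
noncomputable def dp_b_5 (j u : ℕ) : Bool :=
  Bool.rec (motive := fun _ => Bool) (lS MG [T_z, T_bi, T_z] M (Nat.sub (T_b u) (Nat.mod (T_b u) M)) (nat_lit 40) (Nat.mod (T_b u) M) u) (lS MG [T_a, T_b, T_a, T_b, T_a] M (Nat.sub (T_b u) (Nat.mod (T_b u) M)) (nat_lit 40) (Nat.mod (T_b u) M) u) (Nat.ble (nat_lit 13) j)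
noncomputable def dp_b_6 (j u : ℕ) : Bool :=
  Bool.rec (motive := fun _ => Bool) (lF [T_a, T_bi, T_a, T_bi, T_ai, T_ai, T_b, T_ai] M (Nat.sub (T_b u) (Nat.mod (T_b u) M)) (Nat.mod (T_b u) M) u) (lF [T_ai, T_b, T_a, T_bi, T_a, T_bi, T_ai, T_ai] M (Nat.sub (T_b u) (Nat.mod (T_b u) M)) (Nat.mod (T_b u) M) u) (Nat.ble (nat_lit 15) j)
noncomputable def dp_b_7 (j u : ℕ) : Bool :=
  Bool.rec (motive := fun _ => Bool) (dp_b_5 j u) (dp_b_6 j u) (Nat.ble (nat_lit 14) j)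
noncomputable def dp_b_8 (j u : ℕ) : Bool :=
  Bool.rec (motive := fun _ => Bool) (lF [T_ai, T_bi, T_a, T_bi, T_a, T_a, T_b, T_ai] M (Nat.sub (T_b u) (Nat.mod (T_b u) M)) (Nat.mod (T_b u) M) u) (lS MG [T_a, T_bi, T_a, T_bi, T_ai, T_ai, T_b, T_ai] M (Nat.sub (T_b u) (Nat.mod (T_b u) M)) (nat_lit 40) (Nat.mod (T_b u) M) u) (Nat.ble (nat_lit 17) j)
noncomputable def dp_b_9 (j u : ℕ) : Bool :=
  Bool.rec (motive := fun _ => Bool) (lS MG [T_ai, T_b, T_ai, T_bi, T_a, T_bi, T_a, T_a] M (Nat.sub (T_b u) (Nat.mod (T_b u) M)) (nat_lit 40) (Nat.mod (T_b u) M) u) (lS MG [T_ai, T_bi, T_a, T_bi, T_a, T_a, T_b, T_ai] M (Nat.sub (T_b u) (Nat.mod (T_b u) M)) (nat_lit 40) (Nat.mod (T_b u) M) u) (Nat.ble (nat_lit 19) j)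
noncomputable def dp_b_10 (j u : ℕ) : Bool :=
  Bool.rec (motive := fun _ => Bool) (dp_b_8 j u) (dp_b_9 j u) (Nat.ble (nat_lit 18) j)
noncomputable def dp_b_11 (j u : ℕ) : Bool :=
  Bool.rec (motive := fun _ => Bool) (lS MG [T_ai, T_b, T_a, T_bi, T_a, T_bi, T_ai, T_ai] M (Nat.sub (T_b u) (Nat.mod (T_b u) M)) (nat_lit 40) (Nat.mod (T_b u) M) u) (lF [T_d, T_b, T_di, T_b, T_ai, T_di, T_ai, T_ai, T_z, T_bi, T_a] M (Nat.sub (T_b u) (Nat.mod (T_b u) M)) (Nat.mod (T_b u) M) u) (Nat.ble (nat_lit 21) j)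
noncomputable def dp_b_12 (j u : ℕ) : Bool :=
  Bool.rec (motive := fun _ => Bool) (lS MG [T_d, T_b, T_di, T_b, T_ai, T_di, T_ai, T_ai, T_z, T_bi, T_a] M (Nat.sub (T_b u) (Nat.mod (T_b u) M)) (nat_lit 40) (Nat.mod (T_b u) M) u) (lS MG [T_b, T_b] M (Nat.sub (T_b u) (Nat.mod (T_b u) M)) (nat_lit 40) (Nat.mod (T_b u) M) u) (Nat.ble (nat_lit 23) j)
noncomputable def dp_b_13 (j u : ℕ) : Bool :=
  Bool.rec (motive := fun _ => Bool) (dp_b_11 j u) (dp_b_12 j u) (Nat.ble (nat_lit 22) j)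
noncomputable def dp_b_14 (j u : ℕ) : Bool :=
  Bool.rec (motive := fun _ => Bool) (lS MG [T_a, T_bi, T_d, T_b, T_di, T_b, T_ai, T_bi, T_di, T_bi, T_a, T_bi, T_ai, T_d] M (Nat.sub (T_b u) (Nat.mod (T_b u) M)) (nat_lit 40) (Nat.mod (T_b u) M) u) (lS MG [T_z, T_a, T_a, T_d, T_a, T_bi, T_d, T_bi, T_di, T_bi, T_ai] M (Nat.sub (T_b u) (Nat.mod (T_b u) M)) (nat_lit 40) (Nat.mod (T_b u) M) u) (Nat.ble (nat_lit 27) j)
noncomputable def dp_b_15 (j u : ℕ) : Bool :=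
  Bool.rec (motive := fun _ => Bool) (lS MG [T_di, T_ai, T_di, T_bi, T_ai, T_d, T_a, T_d, T_bi, T_ai, T_di, T_a] M (Nat.sub (T_b u) (Nat.mod (T_b u) M)) (nat_lit 40) (Nat.mod (T_b u) M) u) (dp_b_14 j u) (Nat.ble (nat_lit 26) j)
noncomputable def dp_b_16 (j u : ℕ) : Bool :=
  Bool.rec (motive := fun _ => Bool) (lF [T_z, T_a, T_a, T_d, T_a, T_bi, T_d, T_bi, T_di, T_bi, T_ai] M (Nat.sub (T_b u) (Nat.mod (T_b u) M)) (Nat.mod (T_b u) M) u) (dp_b_15 j u) (Nat.ble (nat_lit 25) j)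
noncomputable def dp_b_17 (j u : ℕ) : Bool :=
  Bool.rec (motive := fun _ => Bool) (lS MG [T_a, T_bi, T_d, T_bi, T_di, T_b, T_ai, T_bi, T_di, T_a, T_b, T_ai, T_b, T_d] M (Nat.sub (T_b u) (Nat.mod (T_b u) M)) (nat_lit 40) (Nat.mod (T_b u) M) u) (lS MG [T_d, T_a, T_d, T_bi, T_ai, T_d, T_a, T_b, T_di, T_ai, T_di, T_a] M (Nat.sub (T_b u) (Nat.mod (T_b u) M)) (nat_lit 40) (Nat.mod (T_b u) M) u) (Nat.ble (nat_lit 31) j)
noncomputable def dp_b_18 (j u : ℕ) : Bool :=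
  Bool.rec (motive := fun _ => Bool) (lH [] [] M (Nat.sub (T_b u) (Nat.mod (T_b u) M)) (Nat.mod (T_b u) M) u) (dp_b_17 j u) (Nat.ble (nat_lit 30) j)
noncomputable def dp_b_19 (j u : ℕ) : Bool :=
  Bool.rec (motive := fun _ => Bool) (lS MG [T_di, T_bi, T_ai, T_ai, T_ai, T_di, T_a, T_a, T_a, T_b, T_d, T_a, T_a, T_a] M (Nat.sub (T_b u) (Nat.mod (T_b u) M)) (nat_lit 40) (Nat.mod (T_b u) M) u) (dp_b_18 j u) (Nat.ble (nat_lit 29) j)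
noncomputable def dp_b_20 (j u : ℕ) : Bool :=
  Bool.rec (motive := fun _ => Bool) (lS MG [T_di, T_b, T_ai, T_bi, T_di, T_bi, T_a, T_bi, T_ai, T_d, T_b, T_a, T_bi, T_d] M (Nat.sub (T_b u) (Nat.mod (T_b u) M)) (nat_lit 40) (Nat.mod (T_b u) M) u) (lF [T_di, T_ai, T_di, T_a, T_b, T_d, T_a, T_d, T_bi, T_ai, T_d, T_a] M (Nat.sub (T_b u) (Nat.mod (T_b u) M)) (Nat.mod (T_b u) M) u) (Nat.ble (nat_lit 34) j)
noncomputable def dp_b_21 (j u : ℕ) : Bool :=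
  Bool.rec (motive := fun _ => Bool) (lF [T_di, T_ai, T_di, T_bi, T_ai, T_d, T_a, T_d, T_bi, T_ai, T_di, T_a] M (Nat.sub (T_b u) (Nat.mod (T_b u) M)) (Nat.mod (T_b u) M) u) (dp_b_20 j u) (Nat.ble (nat_lit 33) j)
noncomputable def dp_b_22 (j u : ℕ) : Bool :=
  Bool.rec (motive := fun _ => Bool) (lF [T_ai, T_b, T_d, T_b, T_a, T_bi, T_d, T_bi, T_di, T_b, T_ai, T_bi, T_di, T_a] M (Nat.sub (T_b u) (Nat.mod (T_b u) M)) (Nat.mod (T_b u) M) u) (lS MG [T_ai, T_b, T_d, T_b, T_a, T_bi, T_d, T_bi, T_di, T_b, T_ai, T_bi, T_di, T_a] M (Nat.sub (T_b u) (Nat.mod (T_b u) M)) (nat_lit 40) (Nat.mod (T_b u) M) u) (Nat.ble (nat_lit 37) j)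
noncomputable def dp_b_23 (j u : ℕ) : Bool :=
  Bool.rec (motive := fun _ => Bool) (lS MG [T_ai, T_bi, T_di, T_a, T_b, T_ai, T_b, T_d, T_b, T_a, T_bi, T_d, T_bi, T_di] M (Nat.sub (T_b u) (Nat.mod (T_b u) M)) (nat_lit 40) (Nat.mod (T_b u) M) u) (dp_b_22 j u) (Nat.ble (nat_lit 36) j)
noncomputable def dp_b_24 (j u : ℕ) : Bool :=
  Bool.rec (motive := fun _ => Bool) (dp_b_21 j u) (dp_b_23 j u) (Nat.ble (nat_lit 35) j)
noncomputable def dp_b_25 (j u : ℕ) : Bool :=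
  Bool.rec (motive := fun _ => Bool) (dp_b_19 j u) (dp_b_24 j u) (Nat.ble (nat_lit 32) j)
noncomputable def dp_b_26 (j u : ℕ) : Bool :=
  Bool.rec (motive := fun _ => Bool) (dp_b_16 j u) (dp_b_25 j u) (Nat.ble (nat_lit 28) j)
noncomputable def dp_b_27 (j u : ℕ) : Bool :=
  Bool.rec (motive := fun _ => Bool) (dp_b_13 j u) (dp_b_26 j u) (Nat.ble (nat_lit 24) j)
noncomputable def dp_b_28 (j u : ℕ) : Bool :=
  Bool.rec (motive := fun _ => Bool) (dp_b_10 j u) (dp_b_27 j u) (Nat.ble (nat_lit 20) j)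
noncomputable def dp_b_29 (j u : ℕ) : Bool :=
  Bool.rec (motive := fun _ => Bool) (dp_b_7 j u) (dp_b_28 j u) (Nat.ble (nat_lit 16) j)
noncomputable def dp_b_30 (j u : ℕ) : Bool :=
  Bool.rec (motive := fun _ => Bool) (dp_b_4 j u) (dp_b_29 j u) (Nat.ble (nat_lit 12) j)
noncomputable def dp_b_31 (j u : ℕ) : Bool :=
  Bool.rec (motive := fun _ => Bool) (dp_b_0 j u) (dp_b_30 j u) (Nat.ble (nat_lit 7) j)
noncomputable def dp_b_32 (j u : ℕ) : Bool :=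
  Bool.rec (motive := fun _ => Bool) (lF3 T_z T_bi T_z M (Nat.sub (T_b u) (Nat.mod (T_b u) M)) (Nat.mod (T_b u) M) u) (dp_b_31 j u) (Nat.ble (nat_lit 5) j)
noncomputable def disp_b (j u : ℕ) : Bool :=
  Bool.rec (motive := fun _ => Bool) (Bool.rec (motive := fun _ => Bool) (lF1 T_bi M (Nat.sub (T_b u) (Nat.mod (T_b u) M)) (Nat.mod (T_b u) M) u) (lF [T_b, T_b] M (Nat.sub (T_b u) (Nat.mod (T_b u) M)) (Nat.mod (T_b u) M) u) (Nat.ble (nat_lit 1) j)) (Bool.rec (motive := fun _ => Bool) (Bool.rec (motive := fun _ => Bool) (lDef P (nat_lit 3) u (Nat.mod (T_b u) M)) (lDef P (nat_lit 2) (Nat.mod (T_b u) M) u) (Nat.ble (nat_lit 3) j)) (dp_b_32 j u) (Nat.ble (nat_lit 4) j)) (Nat.ble (nat_lit 2) j)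
noncomputable def chk_b (j u : ℕ) : Bool :=
  Bool.rec (motive := fun _ => Bool) (disp_b j u) (Nat.ble (Nat.succ (MG u)) A) (Nat.ble A (T_b u))
noncomputable def dp_bi_0 (j u : ℕ) : Bool :=
  Bool.rec (motive := fun _ => Bool) (lS MG [T_di, T_bi, T_ai, T_b, T_z, T_a, T_a, T_d, T_a, T_bi, T_d] M (Nat.sub (T_bi u) (Nat.mod (T_bi u) M)) (nat_lit 40) (Nat.mod (T_bi u) M) u) (lS MG [T_z, T_b, T_z] M (Nat.sub (T_bi u) (Nat.mod (T_bi u) M)) (nat_lit 40) (Nat.mod (T_bi u) M) u) (Nat.ble (nat_lit 9) j)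
noncomputable def dp_bi_1 (j u : ℕ) : Bool :=
  Bool.rec (motive := fun _ => Bool) (lF [T_di, T_bi, T_ai, T_b, T_z, T_a, T_a, T_d, T_a, T_bi, T_d] M (Nat.sub (T_bi u) (Nat.mod (T_bi u) M)) (Nat.mod (T_bi u) M) u) (dp_bi_0 j u) (Nat.ble (nat_lit 8) j)
noncomputable def dp_bi_2 (j u : ℕ) : Bool :=
  Bool.rec (motive := fun _ => Bool) (lF [T_ai, T_bi, T_ai, T_bi, T_ai] M (Nat.sub (T_bi u) (Nat.mod (T_bi u) M)) (Nat.mod (T_bi u) M) u) (dp_bi_1 j u) (Nat.ble (nat_lit 7) j)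
noncomputable def dp_bi_3 (j u : ℕ) : Bool :=
  Bool.rec (motive := fun _ => Bool) (lS MG [T_ai, T_bi, T_ai, T_bi, T_ai] M (Nat.sub (T_bi u) (Nat.mod (T_bi u) M)) (nat_lit 40) (Nat.mod (T_bi u) M) u) (lF [T_d, T_bi, T_di, T_bi, T_ai, T_b, T_z, T_a, T_a, T_d, T_a] M (Nat.sub (T_bi u) (Nat.mod (T_bi u) M)) (Nat.mod (T_bi u) M) u) (Nat.ble (nat_lit 11) j)
noncomputable def dp_bi_4 (j u : ℕ) : Bool :=
  Bool.rec (motive := fun _ => Bool) (lF [T_ai, T_ai, T_b, T_ai, T_b, T_a, T_bi, T_a] M (Nat.sub (T_bi u) (Nat.mod (T_bi u) M)) (Nat.mod (T_bi u) M) u) (lF [T_a, T_a, T_b, T_ai, T_b, T_ai, T_bi, T_a] M (Nat.sub (T_bi u) (Nat.mod (T_bi u) M)) (Nat.mod (T_bi u) M) u) (Nat.ble (nat_lit 14) j)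
noncomputable def dp_bi_5 (j u : ℕ) : Bool :=
  Bool.rec (motive := fun _ => Bool) (lS MG [T_d, T_bi, T_di, T_bi, T_ai, T_b, T_z, T_a, T_a, T_d, T_a] M (Nat.sub (T_bi u) (Nat.mod (T_bi u) M)) (nat_lit 40) (Nat.mod (T_bi u) M) u) (dp_bi_4 j u) (Nat.ble (nat_lit 13) j)
noncomputable def dp_bi_6 (j u : ℕ) : Bool :=
  Bool.rec (motive := fun _ => Bool) (dp_bi_3 j u) (dp_bi_5 j u) (Nat.ble (nat_lit 12) j)
noncomputable def dp_bi_7 (j u : ℕ) : Bool :=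
  Bool.rec (motive := fun _ => Bool) (lF [T_a, T_bi, T_a, T_a, T_b, T_ai, T_b, T_ai] M (Nat.sub (T_bi u) (Nat.mod (T_bi u) M)) (Nat.mod (T_bi u) M) u) (lF [T_a, T_bi, T_ai, T_ai, T_b, T_ai, T_b, T_a] M (Nat.sub (T_bi u) (Nat.mod (T_bi u) M)) (Nat.mod (T_bi u) M) u) (Nat.ble (nat_lit 16) j)
noncomputable def dp_bi_8 (j u : ℕ) : Bool :=
  Bool.rec (motive := fun _ => Bool) (lF [T_ai, T_b, T_z, T_a, T_a, T_d, T_a, T_bi, T_d, T_bi, T_di] M (Nat.sub (T_bi u) (Nat.mod (T_bi u) M)) (Nat.mod (T_bi u) M) u) (lS MG [T_ai, T_ai, T_b, T_ai, T_b, T_a, T_bi, T_a] M (Nat.sub (T_bi u) (Nat.mod (T_bi u) M)) (nat_lit 40) (Nat.mod (T_bi u) M) u) (Nat.ble (nat_lit 18) j)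
noncomputable def dp_bi_9 (j u : ℕ) : Bool :=
  Bool.rec (motive := fun _ => Bool) (dp_bi_7 j u) (dp_bi_8 j u) (Nat.ble (nat_lit 17) j)
noncomputable def dp_bi_10 (j u : ℕ) : Bool :=
  Bool.rec (motive := fun _ => Bool) (lS MG [T_a, T_a, T_b, T_ai, T_b, T_ai, T_bi, T_a] M (Nat.sub (T_bi u) (Nat.mod (T_bi u) M)) (nat_lit 40) (Nat.mod (T_bi u) M) u) (lS MG [T_a, T_bi, T_ai, T_ai, T_b, T_ai, T_b, T_a] M (Nat.sub (T_bi u) (Nat.mod (T_bi u) M)) (nat_lit 40) (Nat.mod (T_bi u) M) u) (Nat.ble (nat_lit 20) j)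
noncomputable def dp_bi_11 (j u : ℕ) : Bool :=
  Bool.rec (motive := fun _ => Bool) (lS MG [T_a, T_bi, T_a, T_a, T_b, T_ai, T_b, T_ai] M (Nat.sub (T_bi u) (Nat.mod (T_bi u) M)) (nat_lit 40) (Nat.mod (T_bi u) M) u) (lS MG [T_ai, T_d, T_a, T_b, T_di, T_ai, T_di, T_a, T_b, T_d, T_a, T_d] M (Nat.sub (T_bi u) (Nat.mod (T_bi u) M)) (nat_lit 40) (Nat.mod (T_bi u) M) u) (Nat.ble (nat_lit 22) j)
noncomputable def dp_bi_12 (j u : ℕ) : Bool :=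
  Bool.rec (motive := fun _ => Bool) (dp_bi_10 j u) (dp_bi_11 j u) (Nat.ble (nat_lit 21) j)
noncomputable def dp_bi_13 (j u : ℕ) : Bool :=
  Bool.rec (motive := fun _ => Bool) (lS MG [T_ai, T_d, T_a, T_d, T_bi, T_ai, T_di, T_a, T_b, T_di, T_ai, T_di] M (Nat.sub (T_bi u) (Nat.mod (T_bi u) M)) (nat_lit 40) (Nat.mod (T_bi u) M) u) (lS MG [T_ai, T_ai, T_ai, T_di, T_bi, T_ai, T_ai, T_ai, T_d, T_a, T_a, T_a, T_b, T_d] M (Nat.sub (T_bi u) (Nat.mod (T_bi u) M)) (nat_lit 40) (Nat.mod (T_bi u) M) u) (Nat.ble (nat_lit 25) j)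
noncomputable def dp_bi_14 (j u : ℕ) : Bool :=
  Bool.rec (motive := fun _ => Bool) (lS MG [T_ai, T_b, T_z, T_a, T_a, T_d, T_a, T_bi, T_d, T_bi, T_di] M (Nat.sub (T_bi u) (Nat.mod (T_bi u) M)) (nat_lit 40) (Nat.mod (T_bi u) M) u) (dp_bi_13 j u) (Nat.ble (nat_lit 24) j)
noncomputable def dp_bi_15 (j u : ℕ) : Bool :=
  Bool.rec (motive := fun _ => Bool) (lF [T_a, T_bi, T_ai, T_d, T_b, T_a, T_bi, T_d, T_b, T_di, T_b, T_ai, T_bi, T_di] M (Nat.sub (T_bi u) (Nat.mod (T_bi u) M)) (Nat.mod (T_bi u) M) u) (lS MG [T_bi, T_bi] M (Nat.sub (T_bi u) (Nat.mod (T_bi u) M)) (nat_lit 40) (Nat.mod (T_bi u) M) u) (Nat.ble (nat_lit 29) j)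
noncomputable def dp_bi_16 (j u : ℕ) : Bool :=
  Bool.rec (motive := fun _ => Bool) (lS MG [T_ai, T_di, T_a, T_b, T_di, T_ai, T_di, T_bi, T_ai, T_d, T_a, T_d] M (Nat.sub (T_bi u) (Nat.mod (T_bi u) M)) (nat_lit 40) (Nat.mod (T_bi u) M) u) (dp_bi_15 j u) (Nat.ble (nat_lit 28) j)
noncomputable def dp_bi_17 (j u : ℕ) : Bool :=
  Bool.rec (motive := fun _ => Bool) (lS MG [T_a, T_b, T_d, T_b, T_di, T_b, T_ai, T_di, T_ai, T_ai, T_z] M (Nat.sub (T_bi u) (Nat.mod (T_bi u) M)) (nat_lit 40) (Nat.mod (T_bi u) M) u) (dp_bi_16 j u) (Nat.ble (nat_lit 27) j)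
noncomputable def dp_bi_18 (j u : ℕ) : Bool :=
  Bool.rec (motive := fun _ => Bool) (lF [T_a, T_b, T_d, T_b, T_di, T_b, T_ai, T_di, T_ai, T_ai, T_z] M (Nat.sub (T_bi u) (Nat.mod (T_bi u) M)) (Nat.mod (T_bi u) M) u) (lF [T_ai, T_d, T_a, T_b, T_di, T_ai, T_di, T_a, T_b, T_d, T_a, T_d] M (Nat.sub (T_bi u) (Nat.mod (T_bi u) M)) (Nat.mod (T_bi u) M) u) (Nat.ble (nat_lit 32) j)
noncomputable def dp_bi_19 (j u : ℕ) : Bool :=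
  Bool.rec (motive := fun _ => Bool) (lS MG [T_a, T_bi, T_ai, T_d, T_b, T_a, T_bi, T_d, T_b, T_di, T_b, T_ai, T_bi, T_di] M (Nat.sub (T_bi u) (Nat.mod (T_bi u) M)) (nat_lit 40) (Nat.mod (T_bi u) M) u) (dp_bi_18 j u) (Nat.ble (nat_lit 31) j)
noncomputable def dp_bi_20 (j u : ℕ) : Bool :=
  Bool.rec (motive := fun _ => Bool) (lS MG [T_di, T_b, T_ai, T_bi, T_di, T_a, T_b, T_ai, T_b, T_d, T_b, T_a, T_bi, T_d] M (Nat.sub (T_bi u) (Nat.mod (T_bi u) M)) (nat_lit 40) (Nat.mod (T_bi u) M) u) (lF [T_ai, T_d, T_a, T_d, T_bi, T_ai, T_di, T_a, T_b, T_di, T_ai, T_di] M (Nat.sub (T_bi u) (Nat.mod (T_bi u) M)) (Nat.mod (T_bi u) M) u) (Nat.ble (nat_lit 35) j)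
noncomputable def dp_bi_21 (j u : ℕ) : Bool :=
  Bool.rec (motive := fun _ => Bool) (lF [T_di, T_b, T_ai, T_bi, T_di, T_a, T_b, T_ai, T_b, T_d, T_b, T_a, T_bi, T_d] M (Nat.sub (T_bi u) (Nat.mod (T_bi u) M)) (Nat.mod (T_bi u) M) u) (dp_bi_20 j u) (Nat.ble (nat_lit 34) j)
noncomputable def dp_bi_22 (j u : ℕ) : Bool :=
  Bool.rec (motive := fun _ => Bool) (lS MG [T_di, T_a, T_b, T_ai, T_b, T_d, T_b, T_a, T_bi, T_d, T_bi, T_di, T_b, T_ai] M (Nat.sub (T_bi u) (Nat.mod (T_bi u) M)) (nat_lit 40) (Nat.mod (T_bi u) M) u) (lF [T_ai, T_di, T_a, T_b, T_di, T_ai, T_di, T_bi, T_ai, T_d, T_a, T_d] M (Nat.sub (T_bi u) (Nat.mod (T_bi u) M)) (Nat.mod (T_bi u) M) u) (Nat.ble (nat_lit 38) j)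
noncomputable def dp_bi_23 (j u : ℕ) : Bool :=
  Bool.rec (motive := fun _ => Bool) (lF [T_ai, T_ai, T_ai, T_di, T_bi, T_ai, T_ai, T_ai, T_d, T_a, T_a, T_a, T_b, T_d] M (Nat.sub (T_bi u) (Nat.mod (T_bi u) M)) (Nat.mod (T_bi u) M) u) (dp_bi_22 j u) (Nat.ble (nat_lit 37) j)
noncomputable def dp_bi_24 (j u : ℕ) : Bool :=
  Bool.rec (motive := fun _ => Bool) (dp_bi_21 j u) (dp_bi_23 j u) (Nat.ble (nat_lit 36) j)
noncomputable def dp_bi_25 (j u : ℕ) : Bool :=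
  Bool.rec (motive := fun _ => Bool) (dp_bi_19 j u) (dp_bi_24 j u) (Nat.ble (nat_lit 33) j)
noncomputable def dp_bi_26 (j u : ℕ) : Bool :=
  Bool.rec (motive := fun _ => Bool) (dp_bi_17 j u) (dp_bi_25 j u) (Nat.ble (nat_lit 30) j)
noncomputable def dp_bi_27 (j u : ℕ) : Bool :=
  Bool.rec (motive := fun _ => Bool) (dp_bi_14 j u) (dp_bi_26 j u) (Nat.ble (nat_lit 26) j)
noncomputable def dp_bi_28 (j u : ℕ) : Bool :=
  Bool.rec (motive := fun _ => Bool) (dp_bi_12 j u) (dp_bi_27 j u) (Nat.ble (nat_lit 23) j)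
noncomputable def dp_bi_29 (j u : ℕ) : Bool :=
  Bool.rec (motive := fun _ => Bool) (dp_bi_9 j u) (dp_bi_28 j u) (Nat.ble (nat_lit 19) j)
noncomputable def dp_bi_30 (j u : ℕ) : Bool :=
  Bool.rec (motive := fun _ => Bool) (dp_bi_6 j u) (dp_bi_29 j u) (Nat.ble (nat_lit 15) j)
noncomputable def dp_bi_31 (j u : ℕ) : Bool :=
  Bool.rec (motive := fun _ => Bool) (dp_bi_2 j u) (dp_bi_30 j u) (Nat.ble (nat_lit 10) j)
noncomputable def dp_bi_32 (j u : ℕ) : Bool :=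
  Bool.rec (motive := fun _ => Bool) (Bool.rec (motive := fun _ => Bool) (lF [T_bi, T_bi] M (Nat.sub (T_bi u) (Nat.mod (T_bi u) M)) (Nat.mod (T_bi u) M) u) (lS MG [T_b] M (Nat.sub (T_bi u) (Nat.mod (T_bi u) M)) (nat_lit 40) (Nat.mod (T_bi u) M) u) (Nat.ble (nat_lit 5) j)) (dp_bi_31 j u) (Nat.ble (nat_lit 6) j)
noncomputable def dp_bi_33 (j u : ℕ) : Bool :=
  Bool.rec (motive := fun _ => Bool) (Bool.rec (motive := fun _ => Bool) (lDef P (nat_lit 2) u (Nat.mod (T_bi u) M)) (lF3 T_z T_b T_z M (Nat.sub (T_bi u) (Nat.mod (T_bi u) M)) (Nat.mod (T_bi u) M) u) (Nat.ble (nat_lit 3) j)) (dp_bi_32 j u) (Nat.ble (nat_lit 4) j)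
noncomputable def disp_bi (j u : ℕ) : Bool :=
  Bool.rec (motive := fun _ => Bool) (Bool.rec (motive := fun _ => Bool) (lF1 T_b M (Nat.sub (T_bi u) (Nat.mod (T_bi u) M)) (Nat.mod (T_bi u) M) u) (lDef P (nat_lit 3) (Nat.mod (T_bi u) M) u) (Nat.ble (nat_lit 1) j)) (dp_bi_33 j u) (Nat.ble (nat_lit 2) j)
noncomputable def chk_bi (j u : ℕ) : Bool :=
  Bool.rec (motive := fun _ => Bool) (disp_bi j u) (Nat.ble (Nat.succ (MG u)) A) (Nat.ble A (T_bi u))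
noncomputable def dp_d_0 (j u : ℕ) : Bool :=
  Bool.rec (motive := fun _ => Bool) (lS MG [T_di] M (Nat.sub (T_d u) (Nat.mod (T_d u) M)) (nat_lit 40) (Nat.mod (T_d u) M) u) (lF [T_bi, T_di, T_bi, T_ai, T_b, T_z, T_a, T_a, T_d, T_a, T_bi] M (Nat.sub (T_d u) (Nat.mod (T_d u) M)) (Nat.mod (T_d u) M) u) (Nat.ble (nat_lit 6) j)
noncomputable def dp_d_1 (j u : ℕ) : Bool :=
  Bool.rec (motive := fun _ => Bool) (lS MG [T_a, T_bi, T_d, T_bi, T_di, T_bi, T_ai, T_b, T_z, T_a, T_a] M (Nat.sub (T_d u) (Nat.mod (T_d u) M)) (nat_lit 40) (Nat.mod (T_d u) M) u) (lS MG [T_b, T_di, T_b, T_ai, T_di, T_ai, T_ai, T_z, T_bi, T_a, T_b] M (Nat.sub (T_d u) (Nat.mod (T_d u) M)) (nat_lit 40) (Nat.mod (T_d u) M) u) (Nat.ble (nat_lit 9) j)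
noncomputable def dp_d_2 (j u : ℕ) : Bool :=
  Bool.rec (motive := fun _ => Bool) (lS MG [T_bi, T_di, T_bi, T_ai, T_b, T_z, T_a, T_a, T_d, T_a, T_bi] M (Nat.sub (T_d u) (Nat.mod (T_d u) M)) (nat_lit 40) (Nat.mod (T_d u) M) u) (dp_d_1 j u) (Nat.ble (nat_lit 8) j)
noncomputable def dp_d_3 (j u : ℕ) : Bool :=
  Bool.rec (motive := fun _ => Bool) (lS MG [T_z, T_di, T_z] M (Nat.sub (T_d u) (Nat.mod (T_d u) M)) (nat_lit 40) (Nat.mod (T_d u) M) u) (lF [T_a, T_bi, T_d, T_bi, T_di, T_bi, T_ai, T_b, T_z, T_a, T_a] M (Nat.sub (T_d u) (Nat.mod (T_d u) M)) (Nat.mod (T_d u) M) u) (Nat.ble (nat_lit 11) j)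
noncomputable def dp_d_4 (j u : ℕ) : Bool :=
  Bool.rec (motive := fun _ => Bool) (lS MG [T_a, T_b, T_di, T_ai, T_di, T_a, T_b, T_d, T_a, T_d, T_bi, T_ai] M (Nat.sub (T_d u) (Nat.mod (T_d u) M)) (nat_lit 40) (Nat.mod (T_d u) M) u) (lS MG [T_bi, T_ai, T_d, T_a, T_b, T_di, T_ai, T_di, T_a, T_b, T_d, T_a] M (Nat.sub (T_d u) (Nat.mod (T_d u) M)) (nat_lit 40) (Nat.mod (T_d u) M) u) (Nat.ble (nat_lit 14) j)
noncomputable def dp_d_5 (j u : ℕ) : Bool :=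
  Bool.rec (motive := fun _ => Bool) (lF [T_b, T_di, T_b, T_ai, T_di, T_ai, T_ai, T_z, T_bi, T_a, T_b] M (Nat.sub (T_d u) (Nat.mod (T_d u) M)) (Nat.mod (T_d u) M) u) (dp_d_4 j u) (Nat.ble (nat_lit 13) j)
noncomputable def dp_d_6 (j u : ℕ) : Bool :=
  Bool.rec (motive := fun _ => Bool) (lS MG [T_a, T_d, T_bi, T_ai, T_d, T_a, T_b, T_di, T_ai, T_di, T_a, T_b] M (Nat.sub (T_d u) (Nat.mod (T_d u) M)) (nat_lit 40) (Nat.mod (T_d u) M) u) (lS MG [T_a, T_d, T_bi, T_ai, T_di, T_a, T_b, T_di, T_ai, T_di, T_bi, T_ai] M (Nat.sub (T_d u) (Nat.mod (T_d u) M)) (nat_lit 40) (Nat.mod (T_d u) M) u) (Nat.ble (nat_lit 16) j)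
noncomputable def dp_d_7 (j u : ℕ) : Bool :=
  Bool.rec (motive := fun _ => Bool) (lS MG [T_bi, T_ai, T_ai, T_ai, T_di, T_bi, T_ai, T_ai, T_ai, T_d, T_a, T_a, T_a, T_b] M (Nat.sub (T_d u) (Nat.mod (T_d u) M)) (nat_lit 40) (Nat.mod (T_d u) M) u) (lS MG [T_d, T_d] M (Nat.sub (T_d u) (Nat.mod (T_d u) M)) (nat_lit 40) (Nat.mod (T_d u) M) u) (Nat.ble (nat_lit 19) j)
noncomputable def dp_d_8 (j u : ℕ) : Bool :=
  Bool.rec (motive := fun _ => Bool) (lS MG [T_b, T_a, T_bi, T_d, T_b, T_di, T_b, T_ai, T_bi, T_di, T_bi, T_a, T_bi, T_ai] M (Nat.sub (T_d u) (Nat.mod (T_d u) M)) (nat_lit 40) (Nat.mod (T_d u) M) u) (dp_d_7 j u) (Nat.ble (nat_lit 18) j)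
noncomputable def dp_d_9 (j u : ℕ) : Bool :=
  Bool.rec (motive := fun _ => Bool) (dp_d_6 j u) (dp_d_8 j u) (Nat.ble (nat_lit 17) j)
noncomputable def dp_d_10 (j u : ℕ) : Bool :=
  Bool.rec (motive := fun _ => Bool) (lF [T_a, T_b, T_di, T_ai, T_di, T_a, T_b, T_d, T_a, T_d, T_bi, T_ai] M (Nat.sub (T_d u) (Nat.mod (T_d u) M)) (Nat.mod (T_d u) M) u) (lS MG [T_bi, T_ai, T_di, T_a, T_b, T_di, T_ai, T_di, T_bi, T_ai, T_d, T_a] M (Nat.sub (T_d u) (Nat.mod (T_d u) M)) (nat_lit 40) (Nat.mod (T_d u) M) u) (Nat.ble (nat_lit 22) j)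
noncomputable def dp_d_11 (j u : ℕ) : Bool :=
  Bool.rec (motive := fun _ => Bool) (lS MG [T_a, T_a, T_a, T_b, T_d, T_bi, T_ai, T_ai, T_ai, T_di, T_bi, T_ai, T_ai, T_ai] M (Nat.sub (T_d u) (Nat.mod (T_d u) M)) (nat_lit 40) (Nat.mod (T_d u) M) u) (dp_d_10 j u) (Nat.ble (nat_lit 21) j)
noncomputable def dp_d_12 (j u : ℕ) : Bool :=
  Bool.rec (motive := fun _ => Bool) (lF [T_bi, T_ai, T_d, T_a, T_b, T_di, T_ai, T_di, T_a, T_b, T_d, T_a] M (Nat.sub (T_d u) (Nat.mod (T_d u) M)) (Nat.mod (T_d u) M) u) (lF [T_a, T_d, T_bi, T_ai, T_di, T_a, T_b, T_di, T_ai, T_di, T_bi, T_ai] M (Nat.sub (T_d u) (Nat.mod (T_d u) M)) (Nat.mod (T_d u) M) u) (Nat.ble (nat_lit 25) j)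
noncomputable def dp_d_13 (j u : ℕ) : Bool :=
  Bool.rec (motive := fun _ => Bool) (lF [T_a, T_d, T_bi, T_ai, T_d, T_a, T_b, T_di, T_ai, T_di, T_a, T_b] M (Nat.sub (T_d u) (Nat.mod (T_d u) M)) (Nat.mod (T_d u) M) u) (dp_d_12 j u) (Nat.ble (nat_lit 24) j)
noncomputable def dp_d_14 (j u : ℕ) : Bool :=
  Bool.rec (motive := fun _ => Bool) (lS MG [T_bi, T_di, T_b, T_ai, T_bi, T_di, T_a, T_b, T_ai, T_b, T_d, T_b, T_a, T_bi] M (Nat.sub (T_d u) (Nat.mod (T_d u) M)) (nat_lit 40) (Nat.mod (T_d u) M) u) (lF [T_b, T_a, T_bi, T_d, T_bi, T_di, T_b, T_ai, T_bi, T_di, T_a, T_b, T_ai, T_b] M (Nat.sub (T_d u) (Nat.mod (T_d u) M)) (Nat.mod (T_d u) M) u) (Nat.ble (nat_lit 28) j)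
noncomputable def dp_d_15 (j u : ℕ) : Bool :=
  Bool.rec (motive := fun _ => Bool) (lS MG [T_b, T_di, T_b, T_ai, T_bi, T_di, T_bi, T_a, T_bi, T_ai, T_d, T_b, T_a, T_bi] M (Nat.sub (T_d u) (Nat.mod (T_d u) M)) (nat_lit 40) (Nat.mod (T_d u) M) u) (dp_d_14 j u) (Nat.ble (nat_lit 27) j)
noncomputable def dp_d_16 (j u : ℕ) : Bool :=
  Bool.rec (motive := fun _ => Bool) (lS MG [T_a, T_a, T_a, T_b, T_di, T_bi, T_ai, T_ai, T_ai, T_di, T_a, T_a, T_a, T_b] M (Nat.sub (T_d u) (Nat.mod (T_d u) M)) (nat_lit 40) (Nat.mod (T_d u) M) u) (lF [T_b, T_a, T_bi, T_d, T_b, T_di, T_b, T_ai, T_bi, T_di, T_bi, T_a, T_bi, T_ai] M (Nat.sub (T_d u) (Nat.mod (T_d u) M)) (Nat.mod (T_d u) M) u) (Nat.ble (nat_lit 31) j)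
noncomputable def dp_d_17 (j u : ℕ) : Bool :=
  Bool.rec (motive := fun _ => Bool) (lF [T_bi, T_ai, T_di, T_a, T_b, T_di, T_ai, T_di, T_bi, T_ai, T_d, T_a] M (Nat.sub (T_d u) (Nat.mod (T_d u) M)) (Nat.mod (T_d u) M) u) (dp_d_16 j u) (Nat.ble (nat_lit 30) j)
noncomputable def dp_d_18 (j u : ℕ) : Bool :=
  Bool.rec (motive := fun _ => Bool) (dp_d_15 j u) (dp_d_17 j u) (Nat.ble (nat_lit 29) j)
noncomputable def dp_d_19 (j u : ℕ) : Bool :=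
  Bool.rec (motive := fun _ => Bool) (dp_d_13 j u) (dp_d_18 j u) (Nat.ble (nat_lit 26) j)
noncomputable def dp_d_20 (j u : ℕ) : Bool :=
  Bool.rec (motive := fun _ => Bool) (dp_d_11 j u) (dp_d_19 j u) (Nat.ble (nat_lit 23) j)
noncomputable def dp_d_21 (j u : ℕ) : Bool :=
  Bool.rec (motive := fun _ => Bool) (dp_d_9 j u) (dp_d_20 j u) (Nat.ble (nat_lit 20) j)
noncomputable def dp_d_22 (j u : ℕ) : Bool :=
  Bool.rec (motive := fun _ => Bool) (dp_d_5 j u) (dp_d_21 j u) (Nat.ble (nat_lit 15) j)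
noncomputable def dp_d_23 (j u : ℕ) : Bool :=
  Bool.rec (motive := fun _ => Bool) (dp_d_3 j u) (dp_d_22 j u) (Nat.ble (nat_lit 12) j)
noncomputable def dp_d_24 (j u : ℕ) : Bool :=
  Bool.rec (motive := fun _ => Bool) (dp_d_2 j u) (dp_d_23 j u) (Nat.ble (nat_lit 10) j)
noncomputable def dp_d_25 (j u : ℕ) : Bool :=
  Bool.rec (motive := fun _ => Bool) (dp_d_0 j u) (dp_d_24 j u) (Nat.ble (nat_lit 7) j)
noncomputable def dp_d_26 (j u : ℕ) : Bool :=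
  Bool.rec (motive := fun _ => Bool) (lF3 T_z T_di T_z M (Nat.sub (T_d u) (Nat.mod (T_d u) M)) (Nat.mod (T_d u) M) u) (dp_d_25 j u) (Nat.ble (nat_lit 5) j)
noncomputable def disp_d (j u : ℕ) : Bool :=
  Bool.rec (motive := fun _ => Bool) (Bool.rec (motive := fun _ => Bool) (lF1 T_di M (Nat.sub (T_d u) (Nat.mod (T_d u) M)) (Nat.mod (T_d u) M) u) (lF [T_d, T_d] M (Nat.sub (T_d u) (Nat.mod (T_d u) M)) (Nat.mod (T_d u) M) u) (Nat.ble (nat_lit 1) j)) (Bool.rec (motive := fun _ => Bool) (Bool.rec (motive := fun _ => Bool) (lDef P (nat_lit 4) (Nat.mod (T_d u) M) u) (lDef P (nat_lit 5) u (Nat.mod (T_d u) M)) (Nat.ble (nat_lit 3) j)) (dp_d_26 j u) (Nat.ble (nat_lit 4) j)) (Nat.ble (nat_lit 2) j)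
noncomputable def chk_d (j u : ℕ) : Bool :=
  Bool.rec (motive := fun _ => Bool) (disp_d j u) (Nat.ble (Nat.succ (MG u)) A) (Nat.ble A (T_d u))
noncomputable def dp_di_0 (j u : ℕ) : Bool :=
  Bool.rec (motive := fun _ => Bool) (lS MG [T_b, T_ai, T_di, T_ai, T_ai, T_z, T_bi, T_a, T_b, T_d, T_b] M (Nat.sub (T_di u) (Nat.mod (T_di u) M)) (nat_lit 40) (Nat.mod (T_di u) M) u) (lF [T_bi, T_ai, T_b, T_z, T_a, T_a, T_d, T_a, T_bi, T_d, T_bi] M (Nat.sub (T_di u) (Nat.mod (T_di u) M)) (Nat.mod (T_di u) M) u) (Nat.ble (nat_lit 8) j)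
noncomputable def dp_di_1 (j u : ℕ) : Bool :=
  Bool.rec (motive := fun _ => Bool) (lF [T_b, T_ai, T_di, T_ai, T_ai, T_z, T_bi, T_a, T_b, T_d, T_b] M (Nat.sub (T_di u) (Nat.mod (T_di u) M)) (Nat.mod (T_di u) M) u) (dp_di_0 j u) (Nat.ble (nat_lit 7) j)
noncomputable def dp_di_2 (j u : ℕ) : Bool :=
  Bool.rec (motive := fun _ => Bool) (lS MG [T_ai, T_ai, T_z, T_bi, T_a, T_b, T_d, T_b, T_di, T_b, T_ai] M (Nat.sub (T_di u) (Nat.mod (T_di u) M)) (nat_lit 40) (Nat.mod (T_di u) M) u) (lF [T_ai, T_ai, T_z, T_bi, T_a, T_b, T_d, T_b, T_di, T_b, T_ai] M (Nat.sub (T_di u) (Nat.mod (T_di u) M)) (Nat.mod (T_di u) M) u) (Nat.ble (nat_lit 11) j)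
noncomputable def dp_di_3 (j u : ℕ) : Bool :=
  Bool.rec (motive := fun _ => Bool) (lS MG [T_z, T_d, T_z] M (Nat.sub (T_di u) (Nat.mod (T_di u) M)) (nat_lit 40) (Nat.mod (T_di u) M) u) (dp_di_2 j u) (Nat.ble (nat_lit 10) j)
noncomputable def dp_di_4 (j u : ℕ) : Bool :=
  Bool.rec (motive := fun _ => Bool) (lF [T_a, T_b, T_d, T_a, T_d, T_bi, T_ai, T_d, T_a, T_b, T_di, T_ai] M (Nat.sub (T_di u) (Nat.mod (T_di u) M)) (Nat.mod (T_di u) M) u) (lS MG [T_di, T_di] M (Nat.sub (T_di u) (Nat.mod (T_di u) M)) (nat_lit 40) (Nat.mod (T_di u) M) u) (Nat.ble (nat_lit 14) j)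
noncomputable def dp_di_5 (j u : ℕ) : Bool :=
  Bool.rec (motive := fun _ => Bool) (lS MG [T_bi, T_ai, T_b, T_z, T_a, T_a, T_d, T_a, T_bi, T_d, T_bi] M (Nat.sub (T_di u) (Nat.mod (T_di u) M)) (nat_lit 40) (Nat.mod (T_di u) M) u) (dp_di_4 j u) (Nat.ble (nat_lit 13) j)
noncomputable def dp_di_6 (j u : ℕ) : Bool :=
  Bool.rec (motive := fun _ => Bool) (lS MG [T_a, T_b, T_d, T_a, T_d, T_bi, T_ai, T_d, T_a, T_b, T_di, T_ai] M (Nat.sub (T_di u) (Nat.mod (T_di u) M)) (nat_lit 40) (Nat.mod (T_di u) M) u) (lS MG [T_bi, T_ai, T_d, T_a, T_d, T_bi, T_ai, T_di, T_a, T_b, T_di, T_ai] M (Nat.sub (T_di u) (Nat.mod (T_di u) M)) (nat_lit 40) (Nat.mod (T_di u) M) u) (Nat.ble (nat_lit 16) j)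
noncomputable def dp_di_7 (j u : ℕ) : Bool :=
  Bool.rec (motive := fun _ => Bool) (lS MG [T_ai, T_di, T_bi, T_ai, T_d, T_a, T_d, T_bi, T_ai, T_di, T_a, T_b] M (Nat.sub (T_di u) (Nat.mod (T_di u) M)) (nat_lit 40) (Nat.mod (T_di u) M) u) (lS MG [T_bi, T_a, T_bi, T_ai, T_d, T_b, T_a, T_bi, T_d, T_b, T_di, T_b, T_ai, T_bi] M (Nat.sub (T_di u) (Nat.mod (T_di u) M)) (nat_lit 40) (Nat.mod (T_di u) M) u) (Nat.ble (nat_lit 19) j)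
noncomputable def dp_di_8 (j u : ℕ) : Bool :=
  Bool.rec (motive := fun _ => Bool) (lF [T_a, T_b, T_di, T_ai, T_di, T_bi, T_ai, T_d, T_a, T_d, T_bi, T_ai] M (Nat.sub (T_di u) (Nat.mod (T_di u) M)) (Nat.mod (T_di u) M) u) (dp_di_7 j u) (Nat.ble (nat_lit 18) j)
noncomputable def dp_di_9 (j u : ℕ) : Bool :=
  Bool.rec (motive := fun _ => Bool) (dp_di_6 j u) (dp_di_8 j u) (Nat.ble (nat_lit 17) j)
noncomputable def dp_di_10 (j u : ℕ) : Bool :=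
  Bool.rec (motive := fun _ => Bool) (lS MG [T_a, T_b, T_di, T_ai, T_di, T_bi, T_ai, T_d, T_a, T_d, T_bi, T_ai] M (Nat.sub (T_di u) (Nat.mod (T_di u) M)) (nat_lit 40) (Nat.mod (T_di u) M) u) (lS MG [T_b, T_ai, T_bi, T_di, T_bi, T_a, T_bi, T_ai, T_d, T_b, T_a, T_bi, T_d, T_b] M (Nat.sub (T_di u) (Nat.mod (T_di u) M)) (nat_lit 40) (Nat.mod (T_di u) M) u) (Nat.ble (nat_lit 22) j)
noncomputable def dp_di_11 (j u : ℕ) : Bool :=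
  Bool.rec (motive := fun _ => Bool) (lS MG [T_ai, T_di, T_a, T_b, T_d, T_a, T_d, T_bi, T_ai, T_d, T_a, T_b] M (Nat.sub (T_di u) (Nat.mod (T_di u) M)) (nat_lit 40) (Nat.mod (T_di u) M) u) (dp_di_10 j u) (Nat.ble (nat_lit 21) j)
noncomputable def dp_di_12 (j u : ℕ) : Bool :=
  Bool.rec (motive := fun _ => Bool) (lF [T_ai, T_di, T_a, T_b, T_d, T_a, T_d, T_bi, T_ai, T_d, T_a, T_b] M (Nat.sub (T_di u) (Nat.mod (T_di u) M)) (Nat.mod (T_di u) M) u) (lS MG [T_bi, T_ai, T_ai, T_ai, T_di, T_a, T_a, T_a, T_b, T_d, T_a, T_a, T_a, T_b] M (Nat.sub (T_di u) (Nat.mod (T_di u) M)) (nat_lit 40) (Nat.mod (T_di u) M) u) (Nat.ble (nat_lit 24) j)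
noncomputable def dp_di_13 (j u : ℕ) : Bool :=
  Bool.rec (motive := fun _ => Bool) (lF [T_bi, T_ai, T_d, T_a, T_d, T_bi, T_ai, T_di, T_a, T_b, T_di, T_ai] M (Nat.sub (T_di u) (Nat.mod (T_di u) M)) (Nat.mod (T_di u) M) u) (lF [T_bi, T_ai, T_ai, T_ai, T_di, T_a, T_a, T_a, T_b, T_d, T_a, T_a, T_a, T_b] M (Nat.sub (T_di u) (Nat.mod (T_di u) M)) (Nat.mod (T_di u) M) u) (Nat.ble (nat_lit 26) j)
noncomputable def dp_di_14 (j u : ℕ) : Bool :=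
  Bool.rec (motive := fun _ => Bool) (lF [T_a, T_a, T_a, T_b, T_d, T_a, T_a, T_a, T_b, T_di, T_bi, T_ai, T_ai, T_ai] M (Nat.sub (T_di u) (Nat.mod (T_di u) M)) (Nat.mod (T_di u) M) u) (lS MG [T_a, T_a, T_a, T_b, T_d, T_a, T_a, T_a, T_b, T_di, T_bi, T_ai, T_ai, T_ai] M (Nat.sub (T_di u) (Nat.mod (T_di u) M)) (nat_lit 40) (Nat.mod (T_di u) M) u) (Nat.ble (nat_lit 29) j)
noncomputable def dp_di_15 (j u : ℕ) : Bool :=
  Bool.rec (motive := fun _ => Bool) (lF [T_ai, T_di, T_bi, T_ai, T_d, T_a, T_d, T_bi, T_ai, T_di, T_a, T_b] M (Nat.sub (T_di u) (Nat.mod (T_di u) M)) (Nat.mod (T_di u) M) u) (dp_di_14 j u) (Nat.ble (nat_lit 28) j)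
noncomputable def dp_di_16 (j u : ℕ) : Bool :=
  Bool.rec (motive := fun _ => Bool) (dp_di_13 j u) (dp_di_15 j u) (Nat.ble (nat_lit 27) j)
noncomputable def dp_di_17 (j u : ℕ) : Bool :=
  Bool.rec (motive := fun _ => Bool) (dp_di_12 j u) (dp_di_16 j u) (Nat.ble (nat_lit 25) j)
noncomputable def dp_di_18 (j u : ℕ) : Bool :=
  Bool.rec (motive := fun _ => Bool) (dp_di_11 j u) (dp_di_17 j u) (Nat.ble (nat_lit 23) j)
noncomputable def dp_di_19 (j u : ℕ) : Bool :=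
  Bool.rec (motive := fun _ => Bool) (dp_di_9 j u) (dp_di_18 j u) (Nat.ble (nat_lit 20) j)
noncomputable def dp_di_20 (j u : ℕ) : Bool :=
  Bool.rec (motive := fun _ => Bool) (dp_di_5 j u) (dp_di_19 j u) (Nat.ble (nat_lit 15) j)
noncomputable def dp_di_21 (j u : ℕ) : Bool :=
  Bool.rec (motive := fun _ => Bool) (dp_di_3 j u) (dp_di_20 j u) (Nat.ble (nat_lit 12) j)
noncomputable def dp_di_22 (j u : ℕ) : Bool :=
  Bool.rec (motive := fun _ => Bool) (dp_di_1 j u) (dp_di_21 j u) (Nat.ble (nat_lit 9) j)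
noncomputable def dp_di_23 (j u : ℕ) : Bool :=
  Bool.rec (motive := fun _ => Bool) (lS MG [T_d] M (Nat.sub (T_di u) (Nat.mod (T_di u) M)) (nat_lit 40) (Nat.mod (T_di u) M) u) (dp_di_22 j u) (Nat.ble (nat_lit 6) j)
noncomputable def dp_di_24 (j u : ℕ) : Bool :=
  Bool.rec (motive := fun _ => Bool) (Bool.rec (motive := fun _ => Bool) (lF3 T_z T_d T_z M (Nat.sub (T_di u) (Nat.mod (T_di u) M)) (Nat.mod (T_di u) M) u) (lF [T_di, T_di] M (Nat.sub (T_di u) (Nat.mod (T_di u) M)) (Nat.mod (T_di u) M) u) (Nat.ble (nat_lit 4) j)) (dp_di_23 j u) (Nat.ble (nat_lit 5) j)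
noncomputable def dp_di_25 (j u : ℕ) : Bool :=
  Bool.rec (motive := fun _ => Bool) (lDef P (nat_lit 5) (Nat.mod (T_di u) M) u) (dp_di_24 j u) (Nat.ble (nat_lit 3) j)
noncomputable def disp_di (j u : ℕ) : Bool :=
  Bool.rec (motive := fun _ => Bool) (Bool.rec (motive := fun _ => Bool) (lF1 T_d M (Nat.sub (T_di u) (Nat.mod (T_di u) M)) (Nat.mod (T_di u) M) u) (lDef P (nat_lit 4) u (Nat.mod (T_di u) M)) (Nat.ble (nat_lit 1) j)) (dp_di_25 j u) (Nat.ble (nat_lit 2) j)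
noncomputable def chk_di (j u : ℕ) : Bool :=
  Bool.rec (motive := fun _ => Bool) (disp_di j u) (Nat.ble (Nat.succ (MG u)) A) (Nat.ble A (T_di u))
noncomputable def dp_z_0 (j u : ℕ) : Bool :=
  Bool.rec (motive := fun _ => Bool) (lF3 T_b T_z T_bi M (Nat.sub (T_z u) (Nat.mod (T_z u) M)) (Nat.mod (T_z u) M) u) (lS MG [T_z] M (Nat.sub (T_z u) (Nat.mod (T_z u) M)) (nat_lit 40) (Nat.mod (T_z u) M) u) (Nat.ble (nat_lit 4) j)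
noncomputable def dp_z_1 (j u : ℕ) : Bool :=
  Bool.rec (motive := fun _ => Bool) (lF3 T_di T_z T_d M (Nat.sub (T_z u) (Nat.mod (T_z u) M)) (Nat.mod (T_z u) M) u) (lF3 T_d T_z T_di M (Nat.sub (T_z u) (Nat.mod (T_z u) M)) (Nat.mod (T_z u) M) u) (Nat.ble (nat_lit 7) j)
noncomputable def dp_z_2 (j u : ℕ) : Bool :=
  Bool.rec (motive := fun _ => Bool) (lS MG [T_a, T_z, T_ai] M (Nat.sub (T_z u) (Nat.mod (T_z u) M)) (nat_lit 40) (Nat.mod (T_z u) M) u) (lS MG [T_di, T_z, T_d] M (Nat.sub (T_z u) (Nat.mod (T_z u) M)) (nat_lit 40) (Nat.mod (T_z u) M) u) (Nat.ble (nat_lit 12) j)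
noncomputable def dp_z_3 (j u : ℕ) : Bool :=
  Bool.rec (motive := fun _ => Bool) (lS MG [T_ai, T_z, T_a] M (Nat.sub (T_z u) (Nat.mod (T_z u) M)) (nat_lit 40) (Nat.mod (T_z u) M) u) (dp_z_2 j u) (Nat.ble (nat_lit 11) j)
noncomputable def dp_z_4 (j u : ℕ) : Bool :=
  Bool.rec (motive := fun _ => Bool) (lS MG [T_d, T_z, T_di] M (Nat.sub (T_z u) (Nat.mod (T_z u) M)) (nat_lit 40) (Nat.mod (T_z u) M) u) (lS MG [T_bi, T_z, T_b] M (Nat.sub (T_z u) (Nat.mod (T_z u) M)) (nat_lit 40) (Nat.mod (T_z u) M) u) (Nat.ble (nat_lit 14) j)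
noncomputable def dp_z_5 (j u : ℕ) : Bool :=
  Bool.rec (motive := fun _ => Bool) (lS MG [T_bi, T_a, T_b, T_d, T_b, T_di, T_b, T_ai, T_di, T_ai, T_ai] M (Nat.sub (T_z u) (Nat.mod (T_z u) M)) (nat_lit 40) (Nat.mod (T_z u) M) u) (lS MG [T_a, T_a, T_d, T_a, T_bi, T_d, T_bi, T_di, T_bi, T_ai, T_b] M (Nat.sub (T_z u) (Nat.mod (T_z u) M)) (nat_lit 40) (Nat.mod (T_z u) M) u) (Nat.ble (nat_lit 18) j)
noncomputable def dp_z_6 (j u : ℕ) : Bool :=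
  Bool.rec (motive := fun _ => Bool) (lF [T_bi, T_a, T_b, T_d, T_b, T_di, T_b, T_ai, T_di, T_ai, T_ai] M (Nat.sub (T_z u) (Nat.mod (T_z u) M)) (Nat.mod (T_z u) M) u) (dp_z_5 j u) (Nat.ble (nat_lit 17) j)
noncomputable def dp_z_7 (j u : ℕ) : Bool :=
  Bool.rec (motive := fun _ => Bool) (lS MG [T_b, T_z, T_bi] M (Nat.sub (T_z u) (Nat.mod (T_z u) M)) (nat_lit 40) (Nat.mod (T_z u) M) u) (dp_z_6 j u) (Nat.ble (nat_lit 16) j)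
noncomputable def dp_z_8 (j u : ℕ) : Bool :=
  Bool.rec (motive := fun _ => Bool) (dp_z_4 j u) (dp_z_7 j u) (Nat.ble (nat_lit 15) j)
noncomputable def dp_z_9 (j u : ℕ) : Bool :=
  Bool.rec (motive := fun _ => Bool) (dp_z_3 j u) (dp_z_8 j u) (Nat.ble (nat_lit 13) j)
noncomputable def dp_z_10 (j u : ℕ) : Bool :=
  Bool.rec (motive := fun _ => Bool) (lF3 T_bi T_z T_b M (Nat.sub (T_z u) (Nat.mod (T_z u) M)) (Nat.mod (T_z u) M) u) (dp_z_9 j u) (Nat.ble (nat_lit 10) j)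
noncomputable def dp_z_11 (j u : ℕ) : Bool :=
  Bool.rec (motive := fun _ => Bool) (lF3 T_a T_z T_ai M (Nat.sub (T_z u) (Nat.mod (T_z u) M)) (Nat.mod (T_z u) M) u) (dp_z_10 j u) (Nat.ble (nat_lit 9) j)
noncomputable def dp_z_12 (j u : ℕ) : Bool :=
  Bool.rec (motive := fun _ => Bool) (Bool.rec (motive := fun _ => Bool) (lF3 T_ai T_z T_a M (Nat.sub (T_z u) (Nat.mod (T_z u) M)) (Nat.mod (T_z u) M) u) (dp_z_1 j u) (Nat.ble (nat_lit 6) j)) (dp_z_11 j u) (Nat.ble (nat_lit 8) j)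
noncomputable def disp_z (j u : ℕ) : Bool :=
  Bool.rec (motive := fun _ => Bool) (Bool.rec (motive := fun _ => Bool) (lF1 T_z M (Nat.sub (T_z u) (Nat.mod (T_z u) M)) (Nat.mod (T_z u) M) u) (lDef P (nat_lit 6) (Nat.mod (T_z u) M) u) (Nat.ble (nat_lit 1) j)) (Bool.rec (motive := fun _ => Bool) (Bool.rec (motive := fun _ => Bool) (lDef P (nat_lit 6) u (Nat.mod (T_z u) M)) (dp_z_0 j u) (Nat.ble (nat_lit 3) j)) (dp_z_12 j u) (Nat.ble (nat_lit 5) j)) (Nat.ble (nat_lit 2) j)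
noncomputable def chk_z (j u : ℕ) : Bool :=
  Bool.rec (motive := fun _ => Bool) (disp_z j u) (Nat.ble (Nat.succ (MG u)) A) (Nat.ble A (T_z u))
noncomputable def dM_0 (j z1 z2 u : ℕ) : Bool :=
  Bool.rec (motive := fun _ => Bool) (Bool.rec (motive := fun _ => Bool) (mCo MG T_z M (Nat.sub (MG u) (Nat.mod (MG u) M)) (nat_lit 40) z1 z2 u (Nat.mod (MG u) M)) (Bool.rec (motive := fun _ => Bool) (mCo MG T_ai M (Nat.sub (MG u) (Nat.mod (MG u) M)) (nat_lit 40) z1 z2 u (Nat.mod (MG u) M)) (mCo MG T_b M (Nat.sub (MG u) (Nat.mod (MG u) M)) (nat_lit 40) z1 z2 u (Nat.mod (MG u) M)) (Nat.ble (nat_lit 2) j)) (Nat.ble (nat_lit 1) j)) (Bool.rec (motive := fun _ => Bool) (mCo MG T_bi M (Nat.sub (MG u) (Nat.mod (MG u) M)) (nat_lit 40) z1 z2 u (Nat.mod (MG u) M)) (Bool.rec (motive := fun _ => Bool) (mCo MG T_d M (Nat.sub (MG u) (Nat.mod (MG u) M)) (nat_lit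 40) z1 z2 u (Nat.mod (MG u) M)) (mCo MG T_a M (Nat.sub (MG u) (Nat.mod (MG u) M)) (nat_lit 40) z1 z2 u (Nat.mod (MG u) M)) (Nat.ble (nat_lit 5) j)) (Nat.ble (nat_lit 4) j)) (Nat.ble (nat_lit 3) j)
noncomputable def dM_1 (j z1 z2 u : ℕ) : Bool :=
  Bool.rec (motive := fun _ => Bool) (mCo MG T_di M (Nat.sub (MG u) (Nat.mod (MG u) M)) (nat_lit 40) z1 z2 u (Nat.mod (MG u) M)) (Bool.rec (motive := fun _ => Bool) (Bool.rec (motive := fun _ => Bool) (mRel MG [T_ai, T_z] [T_z, T_ai] M (Nat.sub (MG u) (Nat.mod (MG u) M)) (nat_lit 40) z1 u (Nat.mod (MG u) M)) (mRel MG [T_d, T_z] [T_z, T_d] M (Nat.sub (MG u) (Nat.mod (MG u) M)) (nat_lit 40) z1 u (Nat.mod (MG u) M)) (Nat.ble (nat_lit 8) j)) (Bool.rec (motive := fun _ => Bool) (mRel MG [T_d, T_z, T_di] [T_z] M (Nat.sub (MG u) (Nat.mod (MG u) M)) (nat_lit 40) z1 u (Nat.mod (MG u) M)) (mRel MG [T_a,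 T_z] [T_z, T_a] M (Nat.sub (MG u) (Nat.mod (MG u) M)) (nat_lit 40) z1 u (Nat.mod (MG u) M)) (Nat.ble (nat_lit 10) j)) (Nat.ble (nat_lit 9) j)) (Nat.ble (nat_lit 7) j)
noncomputable def dM_2 (j z1 z2 u : ℕ) : Bool :=
  Bool.rec (motive := fun _ => Bool) (Bool.rec (motive := fun _ => Bool) (mRel MG [T_ai, T_z, T_a] [T_z] M (Nat.sub (MG u) (Nat.mod (MG u) M)) (nat_lit 40) z1 u (Nat.mod (MG u) M)) (Bool.rec (motive := fun _ => Bool) (mRel MG [T_a, T_z, T_ai] [T_z] M (Nat.sub (MG u) (Nat.mod (MG u) M)) (nat_lit 40) z1 u (Nat.mod (MG u) M)) (mRel MG [T_di, T_z] [T_z, T_di] M (Nat.sub (MG u) (Nat.mod (MG u) M)) (nat_lit 40) z1 u (Nat.mod (MG u) M)) (Nat.ble (nat_lit 13) j)) (Nat.ble (nat_lit 12) j)) (Bool.rec (motive := fun _ => Bool) (Bool.rec (motive := fun _ => Bool) (mRel MG [T_di, T_z, T_d] [T_z] M (Nat.sub (MG u) (Nat.mod (MG u) M))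 (nat_lit 40) z1 u (Nat.mod (MG u) M)) (mRel MG [T_b, T_z] [T_z, T_b] M (Nat.sub (MG u) (Nat.mod (MG u) M)) (nat_lit 40) z1 u (Nat.mod (MG u) M)) (Nat.ble (nat_lit 15) j)) (Bool.rec (motive := fun _ => Bool) (mRel MG [T_bi, T_z] [T_z, T_bi] M (Nat.sub (MG u) (Nat.mod (MG u) M)) (nat_lit 40) z1 u (Nat.mod (MG u) M)) (mRel MG [T_bi, T_z, T_b] [T_z] M (Nat.sub (MG u) (Nat.mod (MG u) M)) (nat_lit 40) z1 u (Nat.mod (MG u) M)) (Nat.ble (nat_lit 17) j)) (Nat.ble (nat_lit 16) j)) (Nat.ble (nat_lit 14) j)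
noncomputable def dM_3 (j z1 z2 u : ℕ) : Bool :=
  Bool.rec (motive := fun _ => Bool) (Bool.rec (motive := fun _ => Bool) (mRel MG [T_b, T_z, T_bi] [T_z] M (Nat.sub (MG u) (Nat.mod (MG u) M)) (nat_lit 40) z1 u (Nat.mod (MG u) M)) (Bool.rec (motive := fun _ => Bool) (mRel MG [T_z, T_bi] [T_bi, T_z] M (Nat.sub (MG u) (Nat.mod (MG u) M)) (nat_lit 40) z1 u (Nat.mod (MG u) M)) (mRel MG [T_z, T_a] [T_a, T_z] M (Nat.sub (MG u) (Nat.mod (MG u) M)) (nat_lit 40) z1 u (Nat.mod (MG u) M)) (Nat.ble (nat_lit 20) j)) (Nat.ble (nat_lit 19) j)) (Bool.rec (motive := fun _ => Bool) (mRel MG [T_z, T_ai] [T_ai, T_z] M (Nat.sub (MG u) (Nat.mod (MG u) M)) (nat_lit 40) z1 u (Nat.mod (MG u) M)) (Bool.rec (motive := fun _ => Bool) (mRel MG [T_ai, T_bi, T_ai, T_bi, T_ai] [T_b] M (Nat.sub (MG u) (Nat.mod (MG u) M)) (nat_lit 40) z1 u (Nat.mod (MG u) M)) (mRel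 MG [T_z, T_b] [T_b, T_z] M (Nat.sub (MG u) (Nat.mod (MG u) M)) (nat_lit 40) z1 u (Nat.mod (MG u) M)) (Nat.ble (nat_lit 23) j)) (Nat.ble (nat_lit 22) j)) (Nat.ble (nat_lit 21) j)
noncomputable def dM_4 (j z1 z2 u : ℕ) : Bool :=
  Bool.rec (motive := fun _ => Bool) (Bool.rec (motive := fun _ => Bool) (Bool.rec (motive := fun _ => Bool) (mRel MG [T_di, T_ai, T_ai, T_z, T_bi, T_a, T_b, T_d, T_b, T_di] [T_a, T_bi] M (Nat.sub (MG u) (Nat.mod (MG u) M)) (nat_lit 40) z1 u (Nat.mod (MG u) M)) (mRel MG [T_a, T_b] [T_bi, T_ai, T_bi, T_ai] M (Nat.sub (MG u) (Nat.mod (MG u) M)) (nat_lit 40) z1 u (Nat.mod (MG u) M)) (Nat.ble (nat_lit 25) j)) (Bool.rec (motive := fun _ => Bool) (mRel MG [T_a, T_bi, T_ai] [T_b, T_ai, T_bi, T_a, T_bi, T_a] M (Nat.sub (MG u) (Nat.mod (MG u) M)) (nat_lit 40) z1 u (Nat.mod (MG u) M)) (mRel MG [T_ai, T_bi, T_ai, T_bi]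 [T_b, T_a] M (Nat.sub (MG u) (Nat.mod (MG u) M)) (nat_lit 40) z1 u (Nat.mod (MG u) M)) (Nat.ble (nat_lit 27) j)) (Nat.ble (nat_lit 26) j)) (Bool.rec (motive := fun _ => Bool) (Bool.rec (motive := fun _ => Bool) (mRel MG [T_d, T_b, T_di] [T_bi, T_ai, T_b, T_z, T_a, T_a, T_d, T_a, T_bi] M (Nat.sub (MG u) (Nat.mod (MG u) M)) (nat_lit 40) z1 u (Nat.mod (MG u) M)) (mRel MG [T_ai, T_b, T_a, T_bi, T_a, T_bi, T_ai] [T_bi, T_a] M (Nat.sub (MG u) (Nat.mod (MG u) M)) (nat_lit 40) z1 u (Nat.mod (MG u) M)) (Nat.ble (nat_lit 29) j)) (Bool.rec (motive := fun _ => Bool) (mRel MG [T_a, T_b, T_a, T_b] [T_bi, T_ai] M (Nat.sub (MG u) (Nat.mod (MG u) M)) (nat_lit 40) z1 u (Nat.mod (MG u) M)) (Bool.rec (motive := fun _ => Bool) (mRel MG [T_d, T_a, T_bi, T_d] [T_ai, T_ai, T_z, T_bi, T_a, T_b, T_d, T_b] M (Nat.sub (MG u) (Nat.mod (MG u) M)) (nat_lit 40) z1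 u (Nat.mod (MG u) M)) (mRel MG [T_a, T_b, T_a] [T_bi, T_ai, T_bi] M (Nat.sub (MG u) (Nat.mod (MG u) M)) (nat_lit 40) z1 u (Nat.mod (MG u) M)) (Nat.ble (nat_lit 32) j)) (Nat.ble (nat_lit 31) j)) (Nat.ble (nat_lit 30) j)) (Nat.ble (nat_lit 28) j)
noncomputable def dM_5 (j z1 z2 u : ℕ) : Bool :=
  Bool.rec (motive := fun _ => Bool) (dM_3 j z1 z2 u) (dM_4 j z1 z2 u) (Nat.ble (nat_lit 24) j)
noncomputable def dM_6 (j z1 z2 u : ℕ) : Bool :=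
  Bool.rec (motive := fun _ => Bool) (dM_2 j z1 z2 u) (dM_5 j z1 z2 u) (Nat.ble (nat_lit 18) j)
noncomputable def dM_7 (j z1 z2 u : ℕ) : Bool :=
  Bool.rec (motive := fun _ => Bool) (dM_1 j z1 z2 u) (dM_6 j z1 z2 u) (Nat.ble (nat_lit 11) j)
noncomputable def dM_8 (j z1 z2 u : ℕ) : Bool :=
  Bool.rec (motive := fun _ => Bool) (Bool.rec (motive := fun _ => Bool) (Bool.rec (motive := fun _ => Bool) (mRel MG [T_d, T_a, T_bi] [T_ai, T_ai, T_z, T_bi, T_a, T_b, T_d, T_b, T_di] M (Nat.sub (MG u) (Nat.mod (MG u) M)) (nat_lit 40) z1 u (Nat.mod (MG u) M)) (Bool.rec (motive := fun _ => Bool) (mRel MG [T_z, T_d] [T_d, T_z] M (Nat.sub (MG u) (Nat.mod (MG u) M)) (nat_lit 40) z1 u (Nat.mod (MG u) M)) (mRel MG [T_a, T_bi] [T_di, T_ai, T_ai, T_z, T_bi, T_a, T_b, T_d, T_b, T_di] M (Nat.sub (MG u) (Nat.mod (MG u) M)) (nat_lit 40) z1 u (Nat.mod (MG u)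 M)) (Nat.ble (nat_lit 35) j)) (Nat.ble (nat_lit 34) j)) (Bool.rec (motive := fun _ => Bool) (mRel MG [T_ai, T_ai, T_z, T_bi, T_a, T_b, T_d, T_b] [T_d, T_a, T_bi, T_d] M (Nat.sub (MG u) (Nat.mod (MG u) M)) (nat_lit 40) z1 u (Nat.mod (MG u) M)) (Bool.rec (motive := fun _ => Bool) (mRel MG [T_z, T_b, T_z] [T_b] M (Nat.sub (MG u) (Nat.mod (MG u) M)) (nat_lit 40) z1 u (Nat.mod (MG u) M)) (mRel MG [T_ai, T_bi, T_ai] [T_b, T_a, T_b] M (Nat.sub (MG u) (Nat.mod (MG u) M)) (nat_lit 40) z1 u (Nat.mod (MG u) M)) (Nat.ble (nat_lit 38) j)) (Nat.ble (nat_lit 37) j)) (Nat.ble (nat_lit 36) j)) (Bool.rec (motive := fun _ => Bool) (Bool.rec (motive := fun _ => Bool) (mRel MG [T_d, T_a, T_bi, T_d, T_bi, T_di] [T_ai, T_ai, T_z, T_bi, T_a, T_b] M (Nat.sub (MG u) (Nat.mod (MG u) M)) (nat_lit 40) z1 u (Nat.mod (MG u) M)) (Bool.rec (motive := fun _ => Bool)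 (mRel MG [T_bi, T_bi] [T_b] M (Nat.sub (MG u) (Nat.mod (MG u) M)) (nat_lit 40) z1 u (Nat.mod (MG u) M)) (mRel MG [T_b, T_a, T_b] [T_ai, T_bi, T_ai] M (Nat.sub (MG u) (Nat.mod (MG u) M)) (nat_lit 40) z1 u (Nat.mod (MG u) M)) (Nat.ble (nat_lit 41) j)) (Nat.ble (nat_lit 40) j)) (Bool.rec (motive := fun _ => Bool) (mRel MG [T_ai, T_ai, T_z, T_bi, T_a, T_b, T_d] [T_d, T_a, T_bi, T_d, T_bi] M (Nat.sub (MG u) (Nat.mod (MG u) M)) (nat_lit 40) z1 u (Nat.mod (MG u) M)) (Bool.rec (motive := fun _ => Bool) (mRel MG [T_z, T_di] [T_di, T_z] M (Nat.sub (MG u) (Nat.mod (MG u) M)) (nat_lit 40) z1 u (Nat.mod (MG u) M)) (mRel MG [T_ai, T_ai, T_z, T_bi, T_a, T_b, T_d, T_b, T_di] [T_d, T_a, T_bi] M (Nat.sub (MG u) (Nat.mod (MG u) M)) (nat_lit 40) z1 u (Nat.mod (MG u) M)) (Nat.ble (nat_lit 44) j)) (Nat.ble (nat_lit 43) j)) (Nat.ble (nat_lit 42) j)) (Nat.ble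 (nat_lit 39) j)
noncomputable def dM_9 (j z1 z2 u : ℕ) : Bool :=
  Bool.rec (motive := fun _ => Bool) (Bool.rec (motive := fun _ => Bool) (mRel MG [T_a, T_bi, T_d] [T_di, T_ai, T_ai, T_z, T_bi, T_a, T_b, T_d, T_b] M (Nat.sub (MG u) (Nat.mod (MG u) M)) (nat_lit 40) z1 u (Nat.mod (MG u) M)) (Bool.rec (motive := fun _ => Bool) (mRel MG [T_b, T_a, T_b, T_a] [T_ai, T_bi] M (Nat.sub (MG u) (Nat.mod (MG u) M)) (nat_lit 40) z1 u (Nat.mod (MG u) M)) (mRel MG [T_ai, T_z, T_bi, T_a, T_b, T_d, T_b, T_di] [T_a, T_d, T_a, T_bi] M (Nat.sub (MG u) (Nat.mod (MG u) M)) (nat_lit 40) z1 u (Nat.mod (MG u) M)) (Nat.ble (nat_lit 47) j)) (Nat.ble (nat_lit 46) j)) (Bool.rec (motive := fun _ => Bool) (Bool.rec (motive := fun _ => Bool) (mRel MG [T_bi, T_ai] [T_a, T_b, T_a, T_b] M (Nat.sub (MG u) (Nat.mod (MG u) M)) (nat_lit 40) z1 u (Nat.mod (MG u) M)) (mRel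 MG [T_b, T_ai, T_bi, T_a, T_bi, T_a] [T_a, T_bi, T_ai] M (Nat.sub (MG u) (Nat.mod (MG u) M)) (nat_lit 40) z1 u (Nat.mod (MG u) M)) (Nat.ble (nat_lit 49) j)) (Bool.rec (motive := fun _ => Bool) (mRel MG [T_di, T_b, T_ai] [T_bi, T_di, T_bi, T_ai, T_b, T_z, T_a, T_a, T_d] M (Nat.sub (MG u) (Nat.mod (MG u) M)) (nat_lit 40) z1 u (Nat.mod (MG u) M)) (mRel MG [T_bi, T_ai, T_bi] [T_a, T_b, T_a] M (Nat.sub (MG u) (Nat.mod (MG u) M)) (nat_lit 40) z1 u (Nat.mod (MG u) M)) (Nat.ble (nat_lit 51) j)) (Nat.ble (nat_lit 50) j)) (Nat.ble (nat_lit 48) j)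
noncomputable def dM_10 (j z1 z2 u : ℕ) : Bool :=
  Bool.rec (motive := fun _ => Bool) (Bool.rec (motive := fun _ => Bool) (Bool.rec (motive := fun _ => Bool) (mRel MG [T_b, T_di, T_b, T_ai, T_di] [T_di, T_bi, T_ai, T_b, T_z, T_a, T_a] M (Nat.sub (MG u) (Nat.mod (MG u) M)) (nat_lit 40) z1 u (Nat.mod (MG u) M)) (mRel MG [T_d, T_b, T_di, T_b, T_ai] [T_bi, T_ai, T_b, T_z, T_a, T_a, T_d] M (Nat.sub (MG u) (Nat.mod (MG u) M)) (nat_lit 40) z1 u (Nat.mod (MG u) M)) (Nat.ble (nat_lit 53) j)) (Bool.rec (motive := fun _ => Bool) (mRel MG [T_a, T_b, T_d, T_b] [T_b, T_z, T_a, T_a, T_d, T_a, T_bi, T_d] M (Nat.sub (MG u) (Nat.mod (MG u) M)) (nat_lit 40) z1 u (Nat.mod (MG u) M)) (mRel MG [T_d, T_a, T_bi, T_d, T_bi] [T_ai, T_ai, T_z, T_bi, T_a, T_b, T_d] M (Nat.sub (MG u) (Nat.mod (MG u) M)) (nat_lit 40) z1 u (Nat.mod (MG u) M)) (Nat.ble (nat_lit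 55) j)) (Nat.ble (nat_lit 54) j)) (Bool.rec (motive := fun _ => Bool) (Bool.rec (motive := fun _ => Bool) (mRel MG [T_bi, T_ai, T_b, T_z, T_a, T_a] [T_d, T_b, T_di, T_b, T_ai, T_di] M (Nat.sub (MG u) (Nat.mod (MG u) M)) (nat_lit 40) z1 u (Nat.mod (MG u) M)) (mRel MG [T_b, T_ai, T_di] [T_d, T_bi, T_di, T_bi, T_ai, T_b, T_z, T_a, T_a] M (Nat.sub (MG u) (Nat.mod (MG u) M)) (nat_lit 40) z1 u (Nat.mod (MG u) M)) (Nat.ble (nat_lit 57) j)) (Bool.rec (motive := fun _ => Bool) (mRel MG [T_b, T_z, T_a, T_a, T_d, T_a, T_bi] [T_a, T_b, T_d, T_b, T_di] M (Nat.sub (MG u) (Nat.mod (MG u) M)) (nat_lit 40) z1 u (Nat.mod (MG u) M)) (mRel MG [T_di, T_b, T_ai, T_di] [T_bi, T_di, T_bi, T_ai, T_b, T_z, T_a, T_a] M (Nat.sub (MG u) (Nat.mod (MG u) M)) (nat_lit 40) z1 u (Nat.mod (MG u) M)) (Nat.ble (nat_lit 59) j)) (Nat.ble (nat_lit 58) j)) (Nat.ble (nat_lit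 56) j)
noncomputable def dM_11 (j z1 z2 u : ℕ) : Bool :=
  Bool.rec (motive := fun _ => Bool) (dM_9 j z1 z2 u) (dM_10 j z1 z2 u) (Nat.ble (nat_lit 52) j)
noncomputable def dM_12 (j z1 z2 u : ℕ) : Bool :=
  Bool.rec (motive := fun _ => Bool) (dM_8 j z1 z2 u) (dM_11 j z1 z2 u) (Nat.ble (nat_lit 45) j)
noncomputable def dM_13 (j z1 z2 u : ℕ) : Bool :=
  Bool.rec (motive := fun _ => Bool) (Bool.rec (motive := fun _ => Bool) (Bool.rec (motive := fun _ => Bool) (mRel MG [T_a, T_b, T_a, T_b, T_a] [T_bi] M (Nat.sub (MG u) (Nat.mod (MG u) M)) (nat_lit 40) z1 u (Nat.mod (MG u) M)) (mRel MG [T_di, T_bi, T_ai, T_b, T_z, T_a, T_a] [T_b, T_di, T_b, T_ai, T_di] M (Nat.sub (MG u) (Nat.mod (MG u) M)) (nat_lit 40) z1 u (Nat.mod (MG u) M)) (Nat.ble (nat_lit 61) j)) (Bool.rec (motive := fun _ => Bool) (mRel MG [T_z, T_a, T_z] [T_a] M (Nat.sub (MG u) (Nat.mod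 (MG u) M)) (nat_lit 40) z1 u (Nat.mod (MG u) M)) (Bool.rec (motive := fun _ => Bool) (mRel MG [T_b, T_ai, T_b, T_ai] [T_ai, T_ai, T_b, T_ai, T_b] M (Nat.sub (MG u) (Nat.mod (MG u) M)) (nat_lit 40) z1 u (Nat.mod (MG u) M)) (mRel MG [T_ai, T_ai, T_z, T_bi, T_a, T_b, T_d, T_b, T_di, T_b, T_ai] [T_d] M (Nat.sub (MG u) (Nat.mod (MG u) M)) (nat_lit 40) z1 u (Nat.mod (MG u) M)) (Nat.ble (nat_lit 64) j)) (Nat.ble (nat_lit 63) j)) (Nat.ble (nat_lit 62) j)) (Bool.rec (motive := fun _ => Bool) (Bool.rec (motive := fun _ => Bool) (mRel MG [T_a, T_bi, T_a, T_bi] [T_bi, T_a, T_bi, T_a, T_a] M (Nat.sub (MG u) (Nat.mod (MG u) M)) (nat_lit 40) z1 u (Nat.mod (MG u) M)) (mRel MG [T_ai, T_bi] [T_b, T_a, T_b, T_a] M (Nat.sub (MG u) (Nat.mod (MG u) M)) (nat_lit 40) z1 u (Nat.mod (MG u) M)) (Nat.ble (nat_lit 66) j)) (Bool.rec (motive := fun _ => Bool) (mRel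 MG [T_d, T_a, T_d, T_bi, T_ai, T_di] [T_a, T_b, T_d, T_a, T_d, T_bi, T_ai] M (Nat.sub (MG u) (Nat.mod (MG u) M)) (nat_lit 40) z1 u (Nat.mod (MG u) M)) (Bool.rec (motive := fun _ => Bool) (mRel MG [T_ai, T_b, T_z, T_a, T_a] [T_b, T_d, T_b, T_di, T_b, T_ai, T_di] M (Nat.sub (MG u) (Nat.mod (MG u) M)) (nat_lit 40) z1 u (Nat.mod (MG u) M)) (mRel MG [T_ai, T_ai, T_z, T_bi, T_a, T_b, T_d, T_b, T_di, T_b] [T_d, T_a] M (Nat.sub (MG u) (Nat.mod (MG u) M)) (nat_lit 40) z1 u (Nat.mod (MG u) M)) (Nat.ble (nat_lit 69) j)) (Nat.ble (nat_lit 68) j)) (Nat.ble (nat_lit 67) j)) (Nat.ble (nat_lit 65) j)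
noncomputable def dM_14 (j z1 z2 u : ℕ) : Bool :=
  Bool.rec (motive := fun _ => Bool) (Bool.rec (motive := fun _ => Bool) (Bool.rec (motive := fun _ => Bool) (mRel MG [T_a, T_bi, T_a, T_bi, T_ai] [T_bi, T_a, T_bi, T_a] M (Nat.sub (MG u) (Nat.mod (MG u) M)) (nat_lit 40) z1 u (Nat.mod (MG u) M)) (mRel MG [T_a, T_bi, T_d, T_bi] [T_di, T_ai, T_ai, T_z, T_bi, T_a, T_b, T_d] M (Nat.sub (MG u) (Nat.mod (MG u) M)) (nat_lit 40) z1 u (Nat.mod (MG u) M)) (Nat.ble (nat_lit 71) j)) (Bool.rec (motive := fun _ => Bool) (mRel MG [T_z, T_bi, T_z] [T_bi] M (Nat.sub (MG u) (Nat.mod (MG u) M)) (nat_lit 40) z1 u (Nat.mod (MG u) M)) (Bool.rec (motive := fun _ => Bool) (mRel MG [T_ai, T_bi, T_a] [T_bi, T_a, T_bi, T_ai, T_ai, T_b] M (Nat.sub (MG u) (Nat.mod (MG u) M)) (nat_lit 40) z1 u (Nat.mod (MG u) M)) (mRel MG [T_di, T_ai, T_ai, T_z, T_bi, T_a, T_b,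 T_d] [T_a, T_bi, T_d, T_bi] M (Nat.sub (MG u) (Nat.mod (MG u) M)) (nat_lit 40) z1 u (Nat.mod (MG u) M)) (Nat.ble (nat_lit 74) j)) (Nat.ble (nat_lit 73) j)) (Nat.ble (nat_lit 72) j)) (Bool.rec (motive := fun _ => Bool) (Bool.rec (motive := fun _ => Bool) (mRel MG [T_bi] [T_ai, T_di, T_ai, T_ai, T_z, T_bi, T_a, T_b, T_d, T_b, T_di] M (Nat.sub (MG u) (Nat.mod (MG u) M)) (nat_lit 40) z1 u (Nat.mod (MG u) M)) (mRel MG [T_di, T_bi, T_ai, T_b, T_z, T_a, T_a, T_d] [T_b, T_di, T_b, T_ai] M (Nat.sub (MG u) (Nat.mod (MG u) M)) (nat_lit 40) z1 u (Nat.mod (MG u) M)) (Nat.ble (nat_lit 76) j)) (Bool.rec (motive := fun _ => Bool) (mRel MG [T_d, T_bi, T_di, T_bi, T_ai, T_b, T_z, T_a, T_a] [T_b, T_ai, T_di] M (Nat.sub (MG u) (Nat.mod (MG u) M)) (nat_lit 40) z1 u (Nat.mod (MG u) M)) (Bool.rec (motive := fun _ => Bool) (mRel MG [T_ai, T_di, T_ai, T_ai,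 T_z, T_bi, T_a, T_b, T_d, T_b, T_di] [T_bi] M (Nat.sub (MG u) (Nat.mod (MG u) M)) (nat_lit 40) z1 u (Nat.mod (MG u) M)) (mRel MG [T_ai, T_z, T_bi, T_a, T_b, T_d, T_b] [T_a, T_d, T_a, T_bi, T_d] M (Nat.sub (MG u) (Nat.mod (MG u) M)) (nat_lit 40) z1 u (Nat.mod (MG u) M)) (Nat.ble (nat_lit 79) j)) (Nat.ble (nat_lit 78) j)) (Nat.ble (nat_lit 77) j)) (Nat.ble (nat_lit 75) j)
noncomputable def dM_15 (j z1 z2 u : ℕ) : Bool :=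
  Bool.rec (motive := fun _ => Bool) (dM_13 j z1 z2 u) (dM_14 j z1 z2 u) (Nat.ble (nat_lit 70) j)
noncomputable def dM_16 (j z1 z2 u : ℕ) : Bool :=
  Bool.rec (motive := fun _ => Bool) (Bool.rec (motive := fun _ => Bool) (Bool.rec (motive := fun _ => Bool) (mRel MG [T_z, T_di, T_z] [T_di] M (Nat.sub (MG u) (Nat.mod (MG u) M)) (nat_lit 40) z1 u (Nat.mod (MG u) M)) (mRel MG [T_a, T_bi, T_ai, T_ai, T_b] [T_b, T_ai, T_bi, T_a] M (Nat.sub (MG u) (Nat.mod (MG u) M)) (nat_lit 40) z1 u (Nat.mod (MG u) M)) (Nat.ble (nat_lit 81) j)) (Bool.rec (motive := fun _ => Bool) (mRel MG [T_d, T_b, T_di, T_b] [T_bi, T_ai, T_b, T_z, T_a, T_a, T_d, T_a] M (Nat.sub (MG u) (Nat.mod (MG u) M)) (nat_lit 40) z1 u (Nat.mod (MG u) M)) (Bool.rec (motive := fun _ => Bool) (mRel MG [T_di, T_ai, T_ai, T_z, T_bi, T_a, T_b, T_d, T_b] [T_a, T_bi, T_d] M (Nat.sub (MG u)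 (Nat.mod (MG u) M)) (nat_lit 40) z1 u (Nat.mod (MG u) M)) (mRel MG [T_ai, T_b, T_ai, T_bi] [T_bi, T_ai, T_ai, T_b, T_ai] M (Nat.sub (MG u) (Nat.mod (MG u) M)) (nat_lit 40) z1 u (Nat.mod (MG u) M)) (Nat.ble (nat_lit 84) j)) (Nat.ble (nat_lit 83) j)) (Nat.ble (nat_lit 82) j)) (Bool.rec (motive := fun _ => Bool) (Bool.rec (motive := fun _ => Bool) (mRel MG [T_bi, T_di, T_bi, T_ai, T_b, T_z, T_a, T_a] [T_di, T_b, T_ai, T_di] M (Nat.sub (MG u) (Nat.mod (MG u) M)) (nat_lit 40) z1 u (Nat.mod (MG u) M)) (Bool.rec (motive := fun _ => Bool) (mRel MG [T_b, T_a, T_bi, T_a, T_bi] [T_a, T_bi, T_a, T_a] M (Nat.sub (MG u) (Nat.mod (MG u) M)) (nat_lit 40) z1 u (Nat.mod (MG u) M)) (mRel MG [T_bi, T_a, T_b, T_d] [T_z, T_a, T_a, T_d, T_a, T_bi, T_d, T_bi] M (Nat.sub (MG u) (Nat.mod (MG u) M)) (nat_lit 40) z1 u (Nat.mod (MG u) M)) (Nat.ble (nat_lit 87)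 j)) (Nat.ble (nat_lit 86) j)) (Bool.rec (motive := fun _ => Bool) (Bool.rec (motive := fun _ => Bool) (mRel MG [T_bi, T_a, T_bi, T_ai, T_d] [T_d, T_b, T_a, T_bi, T_d, T_bi, T_di, T_b, T_ai, T_bi] M (Nat.sub (MG u) (Nat.mod (MG u) M)) (nat_lit 40) z1 u (Nat.mod (MG u) M)) (mRel MG [T_bi, T_di, T_bi, T_ai, T_b, T_z, T_a, T_a, T_d, T_a] [T_di, T_b] M (Nat.sub (MG u) (Nat.mod (MG u) M)) (nat_lit 40) z1 u (Nat.mod (MG u) M)) (Nat.ble (nat_lit 89) j)) (Bool.rec (motive := fun _ => Bool) (mRel MG [T_ai, T_b, T_ai, T_b, T_a, T_bi, T_a] [T_a, T_b] M (Nat.sub (MG u) (Nat.mod (MG u) M)) (nat_lit 40) z1 u (Nat.mod (MG u) M)) (mRel MG [T_di, T_ai, T_ai, T_z, T_bi, T_a, T_b, T_d, T_b, T_di, T_b] [T_a] M (Nat.sub (MG u) (Nat.mod (MG u) M)) (nat_lit 40) z1 u (Nat.mod (MG u) M)) (Nat.ble (nat_lit 91) j)) (Nat.ble (nat_lit 90) j)) (Nat.ble (nat_lit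 88) j)) (Nat.ble (nat_lit 85) j)
noncomputable def dM_17 (j z1 z2 u : ℕ) : Bool :=
  Bool.rec (motive := fun _ => Bool) (Bool.rec (motive := fun _ => Bool) (mRel MG [T_d, T_a, T_d, T_bi, T_ai, T_di, T_a, T_b, T_di] [T_a, T_b, T_d, T_a] M (Nat.sub (MG u) (Nat.mod (MG u) M)) (nat_lit 40) z1 u (Nat.mod (MG u) M)) (Bool.rec (motive := fun _ => Bool) (mRel MG [T_ai, T_b, T_ai, T_b, T_a, T_bi, T_a, T_bi, T_ai] [] M (Nat.sub (MG u) (Nat.mod (MG u) M)) (nat_lit 40) z1 u (Nat.mod (MG u) M)) (mRel MG [T_a, T_bi, T_d, T_bi, T_di, T_bi, T_ai, T_b, T_z, T_a, T_a, T_d] [] M (Nat.sub (MG u) (Nat.mod (MG u) M)) (nat_lit 40) z1 u (Nat.mod (MG u) M)) (Nat.ble (nat_lit 94) j)) (Nat.ble (nat_lit 93) j)) (Bool.rec (motive := fun _ => Bool) (Bool.rec (motive := fun _ => Bool) (mRel MG [T_ai, T_di, T_a, T_b, T_d, T_a, T_d, T_bi, T_ai, T_d] [T_d, T_bi, T_ai]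 M (Nat.sub (MG u) (Nat.mod (MG u) M)) (nat_lit 40) z1 u (Nat.mod (MG u) M)) (mRel MG [T_ai, T_b, T_ai, T_bi, T_a, T_bi, T_a] [T_bi, T_ai] M (Nat.sub (MG u) (Nat.mod (MG u) M)) (nat_lit 40) z1 u (Nat.mod (MG u) M)) (Nat.ble (nat_lit 96) j)) (Bool.rec (motive := fun _ => Bool) (mRel MG [T_ai, T_bi, T_a, T_bi, T_a] [T_bi, T_a, T_bi, T_ai] M (Nat.sub (MG u) (Nat.mod (MG u) M)) (nat_lit 40) z1 u (Nat.mod (MG u) M)) (mRel MG [T_a, T_bi, T_a, T_a, T_b, T_ai, T_b, T_ai, T_bi] [] M (Nat.sub (MG u) (Nat.mod (MG u) M)) (nat_lit 40) z1 u (Nat.mod (MG u) M)) (Nat.ble (nat_lit 98) j)) (Nat.ble (nat_lit 97) j)) (Nat.ble (nat_lit 95) j)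
noncomputable def dM_18 (j z1 z2 u : ℕ) : Bool :=
  Bool.rec (motive := fun _ => Bool) (Bool.rec (motive := fun _ => Bool) (Bool.rec (motive := fun _ => Bool) (mRel MG [T_ai, T_ai, T_b, T_ai, T_b, T_a, T_bi, T_a] [T_b] M (Nat.sub (MG u) (Nat.mod (MG u) M)) (nat_lit 40) z1 u (Nat.mod (MG u) M)) (mRel MG [T_a, T_bi, T_a, T_bi, T_ai, T_ai] [T_bi, T_a, T_bi] M (Nat.sub (MG u) (Nat.mod (MG u) M)) (nat_lit 40) z1 u (Nat.mod (MG u) M)) (Nat.ble (nat_lit 100) j)) (Bool.rec (motive := fun _ => Bool) (mRel MG [T_bi, T_a, T_bi, T_ai, T_ai] [T_ai, T_bi, T_a, T_bi] M (Nat.sub (MG u) (Nat.mod (MG u) M)) (nat_lit 40) z1 u (Nat.mod (MG u) M)) (mRel MG [T_b, T_a, T_bi, T_a, T_bi, T_ai] [T_a, T_bi, T_a] M (Nat.sub (MG u) (Nat.mod (MG u) M)) (nat_lit 40) z1 u (Nat.mod (MG u) M)) (Nat.ble (nat_lit 102) j)) (Nat.ble (nat_lit 101) j)) (Bool.rec (motive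 := fun _ => Bool) (Bool.rec (motive := fun _ => Bool) (mRel MG [T_ai, T_b, T_ai, T_b, T_a, T_bi] [T_a, T_b, T_ai] M (Nat.sub (MG u) (Nat.mod (MG u) M)) (nat_lit 40) z1 u (Nat.mod (MG u) M)) (mRel MG [T_b, T_ai, T_b, T_ai, T_bi, T_a] [T_ai, T_ai, T_b] M (Nat.sub (MG u) (Nat.mod (MG u) M)) (nat_lit 40) z1 u (Nat.mod (MG u) M)) (Nat.ble (nat_lit 104) j)) (Bool.rec (motive := fun _ => Bool) (mRel MG [T_b, T_di, T_b, T_ai] [T_di, T_bi, T_ai, T_b, T_z, T_a, T_a, T_d] M (Nat.sub (MG u) (Nat.mod (MG u) M)) (nat_lit 40) z1 u (Nat.mod (MG u) M)) (mRel MG [T_di, T_ai, T_ai, T_z, T_bi, T_a, T_b] [T_a, T_bi, T_d, T_bi, T_di] M (Nat.sub (MG u) (Nat.mod (MG u) M)) (nat_lit 40) z1 u (Nat.mod (MG u) M)) (Nat.ble (nat_lit 106) j)) (Nat.ble (nat_lit 105) j)) (Nat.ble (nat_lit 103) j)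
noncomputable def dM_19 (j z1 z2 u : ℕ) : Bool :=
  Bool.rec (motive := fun _ => Bool) (dM_17 j z1 z2 u) (dM_18 j z1 z2 u) (Nat.ble (nat_lit 99) j)
noncomputable def dM_20 (j z1 z2 u : ℕ) : Bool :=
  Bool.rec (motive := fun _ => Bool) (dM_16 j z1 z2 u) (dM_19 j z1 z2 u) (Nat.ble (nat_lit 92) j)
noncomputable def dM_21 (j z1 z2 u : ℕ) : Bool :=
  Bool.rec (motive := fun _ => Bool) (dM_15 j z1 z2 u) (dM_20 j z1 z2 u) (Nat.ble (nat_lit 80) j)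
noncomputable def dM_22 (j z1 z2 u : ℕ) : Bool :=
  Bool.rec (motive := fun _ => Bool) (dM_12 j z1 z2 u) (dM_21 j z1 z2 u) (Nat.ble (nat_lit 60) j)
noncomputable def dM_23 (j z1 z2 u : ℕ) : Bool :=
  Bool.rec (motive := fun _ => Bool) (Bool.rec (motive := fun _ => Bool) (mRel MG [T_d, T_a, T_b, T_di, T_ai] [T_a, T_b, T_di, T_ai, T_di, T_bi, T_ai, T_d] M (Nat.sub (MG u) (Nat.mod (MG u) M)) (nat_lit 40) z1 u (Nat.mod (MG u) M)) (Bool.rec (motive := fun _ => Bool) (mRel MG [T_ai, T_di, T_ai, T_ai, T_z, T_bi, T_a, T_b, T_d, T_b] [T_bi, T_d] M (Nat.sub (MG u) (Nat.mod (MG u) M)) (nat_lit 40) z1 u (Nat.mod (MG u) M)) (mRel MG [T_d, T_bi, T_di, T_bi, T_ai, T_b, T_z, T_a, T_a, T_d] [T_b, T_ai] M (Nat.sub (MG u) (Nat.mod (MG u) M)) (nat_lit 40) z1 u (Nat.mod (MG u) M)) (Nat.ble (nat_lit 109) j)) (Nat.ble (nat_lit 108) j)) (Bool.rec (motive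 := fun _ => Bool) (Bool.rec (motive := fun _ => Bool) (mRel MG [T_b, T_a, T_b, T_a, T_b] [T_ai] M (Nat.sub (MG u) (Nat.mod (MG u) M)) (nat_lit 40) z1 u (Nat.mod (MG u) M)) (mRel MG [T_bi, T_di, T_bi, T_ai, T_b, T_z, T_a, T_a, T_d, T_a, T_bi, T_d] [] M (Nat.sub (MG u) (Nat.mod (MG u) M)) (nat_lit 40) z1 u (Nat.mod (MG u) M)) (Nat.ble (nat_lit 111) j)) (Bool.rec (motive := fun _ => Bool) (mRel MG [T_z, T_bi, T_a, T_b] [T_a, T_a, T_d, T_a, T_bi, T_d, T_bi, T_di] M (Nat.sub (MG u) (Nat.mod (MG u) M)) (nat_lit 40) z1 u (Nat.mod (MG u) M)) (mRel MG [T_a, T_a, T_d, T_a, T_bi] [T_z, T_bi, T_a, T_b, T_d, T_b, T_di] M (Nat.sub (MG u) (Nat.mod (MG u) M)) (nat_lit 40) z1 u (Nat.mod (MG u) M)) (Nat.ble (nat_lit 113) j)) (Nat.ble (nat_lit 112) j)) (Nat.ble (nat_lit 110) j)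
noncomputable def dM_24 (j z1 z2 u : ℕ) : Bool :=
  Bool.rec (motive := fun _ => Bool) (Bool.rec (motive := fun _ => Bool) (Bool.rec (motive := fun _ => Bool) (mRel MG [T_b, T_d, T_b, T_di] [T_ai, T_b, T_z, T_a, T_a, T_d, T_a, T_bi] M (Nat.sub (MG u) (Nat.mod (MG u) M)) (nat_lit 40) z1 u (Nat.mod (MG u) M)) (mRel MG [T_b, T_z, T_a, T_a, T_d, T_a, T_bi, T_d, T_bi, T_di, T_bi] [T_a] M (Nat.sub (MG u) (Nat.mod (MG u) M)) (nat_lit 40) z1 u (Nat.mod (MG u) M)) (Nat.ble (nat_lit 115) j)) (Bool.rec (motive := fun _ => Bool) (mRel MG [T_ai, T_ai, T_b, T_ai, T_b, T_a] [T_b, T_ai, T_b] M (Nat.sub (MG u) (Nat.mod (MG u) M)) (nat_lit 40) z1 u (Nat.mod (MG u) M)) (mRel MG [T_bi, T_ai, T_bi, T_ai] [T_a, T_b] M (Nat.sub (MG u) (Nat.mod (MG u) M)) (nat_lit 40) z1 u (Nat.mod (MG u) M)) (Nat.ble (nat_lit 117) j)) (Nat.ble (nat_lit 116) j)) (Bool.rec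 (motive := fun _ => Bool) (Bool.rec (motive := fun _ => Bool) (mRel MG [T_a, T_bi, T_ai] [T_b, T_d, T_b, T_a, T_bi, T_d, T_bi, T_di, T_b, T_ai, T_bi, T_di] M (Nat.sub (MG u) (Nat.mod (MG u) M)) (nat_lit 40) z1 u (Nat.mod (MG u) M)) (mRel MG [T_a, T_b, T_d, T_b, T_di] [T_b, T_z, T_a, T_a, T_d, T_a, T_bi] M (Nat.sub (MG u) (Nat.mod (MG u) M)) (nat_lit 40) z1 u (Nat.mod (MG u) M)) (Nat.ble (nat_lit 119) j)) (Bool.rec (motive := fun _ => Bool) (mRel MG [T_bi, T_a, T_b, T_d, T_b, T_di, T_b] [T_z, T_a, T_a, T_d, T_a] M (Nat.sub (MG u) (Nat.mod (MG u) M)) (nat_lit 40) z1 u (Nat.mod (MG u) M)) (mRel MG [T_a, T_d, T_a] [T_ai, T_z, T_bi, T_a, T_b, T_d, T_b, T_di, T_b] M (Nat.sub (MG u) (Nat.mod (MG u) M)) (nat_lit 40) z1 u (Nat.mod (MG u) M)) (Nat.ble (nat_lit 121) j)) (Nat.ble (nat_lit 120) j)) (Nat.ble (nat_lit 118) j)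
noncomputable def dM_25 (j z1 z2 u : ℕ) : Bool :=
  Bool.rec (motive := fun _ => Bool) (dM_23 j z1 z2 u) (dM_24 j z1 z2 u) (Nat.ble (nat_lit 114) j)
noncomputable def dM_26 (j z1 z2 u : ℕ) : Bool :=
  Bool.rec (motive := fun _ => Bool) (Bool.rec (motive := fun _ => Bool) (mRel MG [T_a, T_b, T_d, T_a, T_d, T_bi, T_ai, T_d, T_a, T_b, T_di] [T_d, T_a] M (Nat.sub (MG u) (Nat.mod (MG u) M)) (nat_lit 40) z1 u (Nat.mod (MG u) M)) (Bool.rec (motive := fun _ => Bool) (mRel MG [T_ai, T_b, T_ai] [T_bi, T_ai, T_ai, T_b, T_ai, T_b] M (Nat.sub (MG u) (Nat.mod (MG u) M)) (nat_lit 40) z1 u (Nat.mod (MG u) M)) (mRel MG [T_ai, T_bi, T_a, T_bi] [T_bi, T_a, T_bi, T_ai, T_ai] M (Nat.sub (MG u) (Nat.mod (MG u) M)) (nat_lit 40) z1 u (Nat.mod (MG u) M)) (Nat.ble (nat_lit 124) j)) (Nat.ble (nat_lit 123) j)) (Bool.rec (motive := fun _ => Bool) (Bool.rec (motive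 := fun _ => Bool) (mRel MG [T_b, T_z, T_a, T_a, T_d, T_a, T_bi, T_d] [T_a, T_b, T_d, T_b] M (Nat.sub (MG u) (Nat.mod (MG u) M)) (nat_lit 40) z1 u (Nat.mod (MG u) M)) (mRel MG [T_z, T_bi, T_a, T_b, T_d, T_b, T_di, T_b, T_ai, T_di] [T_a, T_a] M (Nat.sub (MG u) (Nat.mod (MG u) M)) (nat_lit 40) z1 u (Nat.mod (MG u) M)) (Nat.ble (nat_lit 126) j)) (Bool.rec (motive := fun _ => Bool) (mRel MG [T_bi, T_d] [T_ai, T_di, T_ai, T_ai, T_z, T_bi, T_a, T_b, T_d, T_b] M (Nat.sub (MG u) (Nat.mod (MG u) M)) (nat_lit 40) z1 u (Nat.mod (MG u) M)) (mRel MG [T_b, T_z, T_a, T_a, T_d, T_a, T_bi, T_d, T_bi] [T_a, T_b, T_d] M (Nat.sub (MG u) (Nat.mod (MG u) M)) (nat_lit 40) z1 u (Nat.mod (MG u) M)) (Nat.ble (nat_lit 128) j)) (Nat.ble (nat_lit 127) j)) (Nat.ble (nat_lit 125) j)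
noncomputable def dM_27 (j z1 z2 u : ℕ) : Bool :=
  Bool.rec (motive := fun _ => Bool) (Bool.rec (motive := fun _ => Bool) (Bool.rec (motive := fun _ => Bool) (mRel MG [T_bi, T_a, T_b, T_d, T_b] [T_z, T_a, T_a, T_d, T_a, T_bi, T_d] M (Nat.sub (MG u) (Nat.mod (MG u) M)) (nat_lit 40) z1 u (Nat.mod (MG u) M)) (mRel MG [T_z, T_bi, T_a, T_b, T_d, T_b, T_di] [T_a, T_a, T_d, T_a, T_bi] M (Nat.sub (MG u) (Nat.mod (MG u) M)) (nat_lit 40) z1 u (Nat.mod (MG u) M)) (Nat.ble (nat_lit 130) j)) (Bool.rec (motive := fun _ => Bool) (mRel MG [T_a, T_d, T_a, T_bi, T_d, T_bi, T_di] [T_ai, T_z, T_bi, T_a, T_b] M (Nat.sub (MG u) (Nat.mod (MG u) M)) (nat_lit 40) z1 u (Nat.mod (MG u) M)) (mRel MG [T_bi, T_ai, T_b, T_z, T_a, T_a, T_d, T_a, T_bi] [T_d, T_b, T_di] M (Nat.sub (MG u) (Nat.mod (MG u) M)) (nat_lit 40) z1 u (Nat.mod (MG u) M)) (Nat.ble (nat_lit 132)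 j)) (Nat.ble (nat_lit 131) j)) (Bool.rec (motive := fun _ => Bool) (Bool.rec (motive := fun _ => Bool) (mRel MG [T_ai, T_b, T_z, T_a, T_a, T_d, T_a, T_bi, T_d, T_bi, T_di] [T_b] M (Nat.sub (MG u) (Nat.mod (MG u) M)) (nat_lit 40) z1 u (Nat.mod (MG u) M)) (mRel MG [T_di, T_b, T_ai, T_di, T_ai, T_ai, T_z, T_bi, T_a, T_b, T_d] [T_bi] M (Nat.sub (MG u) (Nat.mod (MG u) M)) (nat_lit 40) z1 u (Nat.mod (MG u) M)) (Nat.ble (nat_lit 134) j)) (Bool.rec (motive := fun _ => Bool) (mRel MG [T_a, T_bi, T_ai, T_ai] [T_b, T_ai, T_bi, T_a, T_bi] M (Nat.sub (MG u) (Nat.mod (MG u) M)) (nat_lit 40) z1 u (Nat.mod (MG u) M)) (mRel MG [T_b, T_di, T_b] [T_di, T_bi, T_ai, T_b, T_z, T_a, T_a, T_d, T_a] M (Nat.sub (MG u) (Nat.mod (MG u) M)) (nat_lit 40) z1 u (Nat.mod (MG u) M)) (Nat.ble (nat_lit 136) j)) (Nat.ble (nat_lit 135) j)) (Nat.ble (nat_lit 133) j)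
noncomputable def dM_28 (j z1 z2 u : ℕ) : Bool :=
  Bool.rec (motive := fun _ => Bool) (dM_26 j z1 z2 u) (dM_27 j z1 z2 u) (Nat.ble (nat_lit 129) j)
noncomputable def dM_29 (j z1 z2 u : ℕ) : Bool :=
  Bool.rec (motive := fun _ => Bool) (dM_25 j z1 z2 u) (dM_28 j z1 z2 u) (Nat.ble (nat_lit 122) j)
noncomputable def dM_30 (j z1 z2 u : ℕ) : Bool :=
  Bool.rec (motive := fun _ => Bool) (Bool.rec (motive := fun _ => Bool) (Bool.rec (motive := fun _ => Bool) (mRel MG [T_bi, T_a, T_b, T_d, T_b, T_di, T_b, T_ai, T_di] [T_z, T_a, T_a] M (Nat.sub (MG u) (Nat.mod (MG u) M)) (nat_lit 40) z1 u (Nat.mod (MG u) M)) (mRel MG [T_a, T_a, T_d, T_a, T_bi, T_d, T_bi, T_di] [T_z, T_bi, T_a, T_b] M (Nat.sub (MG u) (Nat.mod (MG u) M)) (nat_lit 40) z1 u (Nat.mod (MG u) M)) (Nat.ble (nat_lit 138) j)) (Bool.rec (motive := fun _ => Bool) (mRel MG [T_bi, T_a,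 T_bi, T_a] [T_a, T_bi, T_a, T_bi, T_ai] M (Nat.sub (MG u) (Nat.mod (MG u) M)) (nat_lit 40) z1 u (Nat.mod (MG u) M)) (mRel MG [T_z, T_bi, T_a, T_b, T_d] [T_a, T_a, T_d, T_a, T_bi, T_d, T_bi] M (Nat.sub (MG u) (Nat.mod (MG u) M)) (nat_lit 40) z1 u (Nat.mod (MG u) M)) (Nat.ble (nat_lit 140) j)) (Nat.ble (nat_lit 139) j)) (Bool.rec (motive := fun _ => Bool) (Bool.rec (motive := fun _ => Bool) (mRel MG [T_a, T_a, T_d, T_a, T_bi, T_d, T_bi] [T_z, T_bi, T_a, T_b, T_d] M (Nat.sub (MG u) (Nat.mod (MG u) M)) (nat_lit 40) z1 u (Nat.mod (MG u) M)) (mRel MG [T_ai, T_bi] [T_bi, T_a, T_bi, T_ai, T_ai, T_b, T_ai] M (Nat.sub (MG u) (Nat.mod (MG u) M)) (nat_lit 40) z1 u (Nat.mod (MG u) M)) (Nat.ble (nat_lit 142) j)) (Bool.rec (motive := fun _ => Bool) (Bool.rec (motive := fun _ => Bool) (mRel MG [T_b] [T_a, T_bi, T_ai, T_ai, T_b, T_ai, T_b, T_a] M (Nat.sub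 (MG u) (Nat.mod (MG u) M)) (nat_lit 40) z1 u (Nat.mod (MG u) M)) (mRel MG [T_bi, T_ai, T_ai, T_ai, T_d, T_a, T_a, T_a, T_b, T_d, T_bi, T_ai, T_ai, T_ai] [T_d] M (Nat.sub (MG u) (Nat.mod (MG u) M)) (nat_lit 40) z1 u (Nat.mod (MG u) M)) (Nat.ble (nat_lit 144) j)) (Bool.rec (motive := fun _ => Bool) (mRel MG [T_b, T_ai, T_b, T_a, T_bi, T_a] [T_a, T_a, T_b] M (Nat.sub (MG u) (Nat.mod (MG u) M)) (nat_lit 40) z1 u (Nat.mod (MG u) M)) (mRel MG [T_di, T_a, T_a] [T_a, T_a, T_a, T_b, T_d, T_bi, T_ai, T_ai, T_ai, T_di, T_bi, T_ai] M (Nat.sub (MG u) (Nat.mod (MG u) M)) (nat_lit 40) z1 u (Nat.mod (MG u) M)) (Nat.ble (nat_lit 146) j)) (Nat.ble (nat_lit 145) j)) (Nat.ble (nat_lit 143) j)) (Nat.ble (nat_lit 141) j)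
noncomputable def dM_31 (j z1 z2 u : ℕ) : Bool :=
  Bool.rec (motive := fun _ => Bool) (Bool.rec (motive := fun _ => Bool) (mRel MG [T_bi, T_ai] [T_ai, T_b, T_ai, T_bi, T_a, T_bi, T_a] M (Nat.sub (MG u) (Nat.mod (MG u) M)) (nat_lit 40) z1 u (Nat.mod (MG u) M)) (Bool.rec (motive := fun _ => Bool) (mRel MG [T_b, T_z, T_a, T_a, T_d, T_a] [T_a, T_b, T_d, T_b, T_di, T_b] M (Nat.sub (MG u) (Nat.mod (MG u) M)) (nat_lit 40) z1 u (Nat.mod (MG u) M)) (mRel MG [T_ai, T_bi, T_di, T_a, T_b, T_ai, T_b] [T_bi, T_d, T_b, T_di, T_b, T_ai, T_bi, T_di] M (Nat.sub (MG u) (Nat.mod (MG u) M)) (nat_lit 40) z1 u (Nat.mod (MG u) M)) (Nat.ble (nat_lit 149) j)) (Nat.ble (nat_lit 148) j)) (Bool.rec (motive := fun _ => Bool) (Bool.rec (motive := fun _ => Bool) (mRel MG [T_di, T_a, T_a, T_a, T_b, T_d] [T_a, T_a, T_a, T_b, T_d, T_bi, T_ai, T_ai, T_ai] M (Nat.sub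 (MG u) (Nat.mod (MG u) M)) (nat_lit 40) z1 u (Nat.mod (MG u) M)) (mRel MG [T_a, T_a, T_d] [T_z, T_bi, T_a, T_b, T_d, T_b, T_di, T_b, T_ai] M (Nat.sub (MG u) (Nat.mod (MG u) M)) (nat_lit 40) z1 u (Nat.mod (MG u) M)) (Nat.ble (nat_lit 151) j)) (Bool.rec (motive := fun _ => Bool) (mRel MG [T_bi, T_a, T_a, T_b] [T_ai, T_b, T_a, T_bi, T_a] M (Nat.sub (MG u) (Nat.mod (MG u) M)) (nat_lit 40) z1 u (Nat.mod (MG u) M)) (mRel MG [T_a, T_d, T_a, T_bi, T_d, T_bi, T_di, T_bi] [T_ai, T_z, T_bi, T_a] M (Nat.sub (MG u) (Nat.mod (MG u) M)) (nat_lit 40) z1 u (Nat.mod (MG u) M)) (Nat.ble (nat_lit 153) j)) (Nat.ble (nat_lit 152) j)) (Nat.ble (nat_lit 150) j)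
noncomputable def dM_32 (j z1 z2 u : ℕ) : Bool :=
  Bool.rec (motive := fun _ => Bool) (Bool.rec (motive := fun _ => Bool) (Bool.rec (motive := fun _ => Bool) (mRel MG [T_ai, T_d, T_b] [T_b, T_ai, T_b, T_d, T_b, T_a, T_bi, T_d, T_bi, T_di, T_b, T_ai] M (Nat.sub (MG u) (Nat.mod (MG u) M)) (nat_lit 40) z1 u (Nat.mod (MG u) M)) (mRel MG [T_b, T_ai, T_bi, T_di, T_a] [T_d, T_b, T_di, T_b, T_ai, T_bi, T_di, T_bi, T_a, T_bi] M (Nat.sub (MG u) (Nat.mod (MG u) M)) (nat_lit 40) z1 u (Nat.mod (MG u) M)) (Nat.ble (nat_lit 155) j)) (Bool.rec (motive := fun _ => Bool) (mRel MG [T_bi, T_ai, T_ai, T_ai, T_d, T_a, T_a, T_a, T_b, T_d] [T_d, T_a, T_a, T_a, T_b] M (Nat.sub (MG u) (Nat.mod (MG u) M)) (nat_lit 40) z1 u (Nat.mod (MG u) M)) (mRel MG [T_a, T_bi, T_a, T_a, T_b, T_ai, T_b] [T_b, T_a] M (Nat.sub (MG u) (Nat.mod (MG u) M)) (nat_lit 40) z1 u (Nat.mod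 (MG u) M)) (Nat.ble (nat_lit 157) j)) (Nat.ble (nat_lit 156) j)) (Bool.rec (motive := fun _ => Bool) (Bool.rec (motive := fun _ => Bool) (mRel MG [T_a, T_bi, T_a, T_bi, T_ai, T_ai, T_b] [T_bi, T_a] M (Nat.sub (MG u) (Nat.mod (MG u) M)) (nat_lit 40) z1 u (Nat.mod (MG u) M)) (mRel MG [T_a, T_b, T_d, T_b, T_di, T_b] [T_b, T_z, T_a, T_a, T_d, T_a] M (Nat.sub (MG u) (Nat.mod (MG u) M)) (nat_lit 40) z1 u (Nat.mod (MG u) M)) (Nat.ble (nat_lit 159) j)) (Bool.rec (motive := fun _ => Bool) (mRel MG [T_a, T_d, T_bi, T_ai, T_di, T_a, T_b, T_di] [T_di, T_a, T_b, T_d, T_a] M (Nat.sub (MG u) (Nat.mod (MG u) M)) (nat_lit 40) z1 u (Nat.mod (MG u) M)) (mRel MG [T_a, T_bi] [T_b, T_ai, T_bi, T_a, T_bi, T_a, T_a] M (Nat.sub (MG u) (Nat.mod (MG u) M)) (nat_lit 40) z1 u (Nat.mod (MG u) M)) (Nat.ble (nat_lit 161) j)) (Nat.ble (nat_lit 160) j)) (Nat.ble (nat_lit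 158) j)
noncomputable def dM_33 (j z1 z2 u : ℕ) : Bool :=
  Bool.rec (motive := fun _ => Bool) (dM_31 j z1 z2 u) (dM_32 j z1 z2 u) (Nat.ble (nat_lit 154) j)
noncomputable def dM_34 (j z1 z2 u : ℕ) : Bool :=
  Bool.rec (motive := fun _ => Bool) (dM_30 j z1 z2 u) (dM_33 j z1 z2 u) (Nat.ble (nat_lit 147) j)
noncomputable def dM_35 (j z1 z2 u : ℕ) : Bool :=
  Bool.rec (motive := fun _ => Bool) (Bool.rec (motive := fun _ => Bool) (mRel MG [T_a, T_a, T_d, T_a] [T_z, T_bi, T_a, T_b, T_d, T_b, T_di, T_b] M (Nat.sub (MG u) (Nat.mod (MG u) M)) (nat_lit 40) z1 u (Nat.mod (MG u) M)) (Bool.rec (motive := fun _ => Bool) (mRel MG [T_a, T_b, T_d, T_bi, T_ai, T_ai, T_ai, T_di, T_bi] [T_ai, T_ai, T_di, T_a, T_a, T_a] M (Nat.sub (MG u) (Nat.mod (MG u) M)) (nat_lit 40) z1 u (Nat.mod (MG u) M)) (mRel MG [T_ai] [T_b, T_di, T_ai, T_di, T_bi, T_ai, T_d, T_a,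 T_d, T_bi, T_ai, T_di] M (Nat.sub (MG u) (Nat.mod (MG u) M)) (nat_lit 40) z1 u (Nat.mod (MG u) M)) (Nat.ble (nat_lit 164) j)) (Nat.ble (nat_lit 163) j)) (Bool.rec (motive := fun _ => Bool) (Bool.rec (motive := fun _ => Bool) (mRel MG [T_a, T_bi, T_d, T_bi, T_di, T_b, T_ai, T_bi, T_di, T_a, T_b, T_ai, T_b, T_d] [T_bi] M (Nat.sub (MG u) (Nat.mod (MG u) M)) (nat_lit 40) z1 u (Nat.mod (MG u) M)) (mRel MG [T_b, T_ai, T_bi, T_di, T_bi, T_a, T_bi, T_ai, T_d, T_b, T_a, T_bi] [T_d, T_bi, T_di] M (Nat.sub (MG u) (Nat.mod (MG u) M)) (nat_lit 40) z1 u (Nat.mod (MG u) M)) (Nat.ble (nat_lit 166) j)) (Bool.rec (motive := fun _ => Bool) (mRel MG [T_ai, T_bi, T_a, T_bi, T_a, T_a] [T_bi, T_a, T_bi] M (Nat.sub (MG u) (Nat.mod (MG u) M)) (nat_lit 40) z1 u (Nat.mod (MG u) M)) (mRel MG [T_b, T_ai, T_b, T_ai, T_bi, T_a, T_bi] [T_ai, T_ai] M (Nat.sub (MG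 u) (Nat.mod (MG u) M)) (nat_lit 40) z1 u (Nat.mod (MG u) M)) (Nat.ble (nat_lit 168) j)) (Nat.ble (nat_lit 167) j)) (Nat.ble (nat_lit 165) j)
noncomputable def dM_36 (j z1 z2 u : ℕ) : Bool :=
  Bool.rec (motive := fun _ => Bool) (Bool.rec (motive := fun _ => Bool) (Bool.rec (motive := fun _ => Bool) (mRel MG [T_d, T_a, T_d, T_bi, T_ai, T_d, T_a, T_b, T_di, T_ai, T_di] [T_bi, T_ai] M (Nat.sub (MG u) (Nat.mod (MG u) M)) (nat_lit 40) z1 u (Nat.mod (MG u) M)) (mRel MG [T_b, T_di, T_b, T_ai, T_di, T_ai] [T_di, T_bi, T_ai, T_b, T_z, T_a] M (Nat.sub (MG u) (Nat.mod (MG u) M)) (nat_lit 40) z1 u (Nat.mod (MG u) M)) (Nat.ble (nat_lit 170) j)) (Bool.rec (motive := fun _ => Bool) (mRel MG [T_di, T_b, T_ai] [T_b, T_di, T_b, T_ai, T_bi, T_di, T_bi, T_a, T_bi, T_ai, T_d, T_b] M (Nat.sub (MG u) (Nat.mod (MG u) M)) (nat_lit 40) z1 u (Nat.mod (MG u)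 M)) (mRel MG [T_b, T_ai, T_b, T_a, T_bi, T_a, T_bi] [T_a, T_a] M (Nat.sub (MG u) (Nat.mod (MG u) M)) (nat_lit 40) z1 u (Nat.mod (MG u) M)) (Nat.ble (nat_lit 172) j)) (Nat.ble (nat_lit 171) j)) (Bool.rec (motive := fun _ => Bool) (Bool.rec (motive := fun _ => Bool) (mRel MG [T_b, T_di] [T_ai, T_di, T_a, T_b, T_di, T_ai, T_di, T_bi, T_ai, T_d, T_a] M (Nat.sub (MG u) (Nat.mod (MG u) M)) (nat_lit 40) z1 u (Nat.mod (MG u) M)) (mRel MG [T_bi, T_ai, T_d] [T_ai, T_b, T_d, T_b, T_a, T_bi, T_d, T_bi, T_di, T_b, T_ai, T_bi] M (Nat.sub (MG u) (Nat.mod (MG u) M)) (nat_lit 40) z1 u (Nat.mod (MG u) M)) (Nat.ble (nat_lit 174) j)) (Bool.rec (motive := fun _ => Bool) (mRel MG [T_ai, T_b, T_z, T_a, T_a, T_d, T_a] [T_b, T_d, T_b, T_di, T_b] M (Nat.sub (MG u) (Nat.mod (MG u) M)) (nat_lit 40) z1 u (Nat.mod (MG u) M)) (mRel MG [T_di, T_a, T_b] [T_a, T_b,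 T_di, T_ai, T_di, T_a, T_b, T_d, T_a, T_d] M (Nat.sub (MG u) (Nat.mod (MG u) M)) (nat_lit 40) z1 u (Nat.mod (MG u) M)) (Nat.ble (nat_lit 176) j)) (Nat.ble (nat_lit 175) j)) (Nat.ble (nat_lit 173) j)
noncomputable def dM_37 (j z1 z2 u : ℕ) : Bool :=
  Bool.rec (motive := fun _ => Bool) (dM_35 j z1 z2 u) (dM_36 j z1 z2 u) (Nat.ble (nat_lit 169) j)
noncomputable def dM_38 (j z1 z2 u : ℕ) : Bool :=
  Bool.rec (motive := fun _ => Bool) (Bool.rec (motive := fun _ => Bool) (Bool.rec (motive := fun _ => Bool) (mRel MG [T_bi, T_ai, T_b, T_z, T_a, T_a, T_d, T_a, T_bi, T_d, T_bi] [T_d] M (Nat.sub (MG u) (Nat.mod (MG u) M)) (nat_lit 40) z1 u (Nat.mod (MG u) M)) (mRel MG [T_b, T_d, T_b] [T_a, T_bi, T_ai, T_d, T_b, T_a, T_bi, T_d, T_b, T_di, T_b, T_ai] M (Nat.sub (MG u) (Nat.mod (MG u) M)) (nat_lit 40) z1 u (Nat.mod (MG u) M)) (Nat.ble (nat_lit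 178) j)) (Bool.rec (motive := fun _ => Bool) (mRel MG [T_ai, T_di] [T_bi, T_d, T_bi, T_di, T_bi, T_ai, T_b, T_z, T_a, T_a] M (Nat.sub (MG u) (Nat.mod (MG u) M)) (nat_lit 40) z1 u (Nat.mod (MG u) M)) (mRel MG [T_a, T_a, T_b] [T_ai, T_d, T_a, T_a, T_a, T_b, T_d, T_bi, T_ai, T_ai, T_ai, T_di] M (Nat.sub (MG u) (Nat.mod (MG u) M)) (nat_lit 40) z1 u (Nat.mod (MG u) M)) (Nat.ble (nat_lit 180) j)) (Nat.ble (nat_lit 179) j)) (Bool.rec (motive := fun _ => Bool) (Bool.rec (motive := fun _ => Bool) (mRel MG [T_a, T_b, T_ai, T_b, T_ai, T_bi] [T_ai, T_b, T_ai] M (Nat.sub (MG u) (Nat.mod (MG u) M)) (nat_lit 40) z1 u (Nat.mod (MG u) M)) (mRel MG [T_ai, T_b, T_z, T_a, T_a, T_d, T_a, T_bi, T_d, T_bi] [T_b, T_d] M (Nat.sub (MG u) (Nat.mod (MG u) M)) (nat_lit 40) z1 u (Nat.mod (MG u) M)) (Nat.ble (nat_lit 182) j)) (Bool.rec (motive := fun _ => Bool)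 (mRel MG [T_b, T_d, T_bi] [T_ai, T_ai, T_ai, T_di, T_a, T_a, T_a, T_b, T_d, T_a, T_a, T_a] M (Nat.sub (MG u) (Nat.mod (MG u) M)) (nat_lit 40) z1 u (Nat.mod (MG u) M)) (mRel MG [T_d, T_b, T_a, T_bi] [T_a, T_b, T_ai, T_b, T_d, T_b, T_a, T_bi, T_d, T_bi, T_di] M (Nat.sub (MG u) (Nat.mod (MG u) M)) (nat_lit 40) z1 u (Nat.mod (MG u) M)) (Nat.ble (nat_lit 184) j)) (Nat.ble (nat_lit 183) j)) (Nat.ble (nat_lit 181) j)
noncomputable def dM_39 (j z1 z2 u : ℕ) : Bool :=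
  Bool.rec (motive := fun _ => Bool) (Bool.rec (motive := fun _ => Bool) (Bool.rec (motive := fun _ => Bool) (mRel MG [T_b, T_di, T_ai, T_di, T_bi, T_ai, T_d, T_a] [T_ai, T_d, T_a, T_b, T_di] M (Nat.sub (MG u) (Nat.mod (MG u) M)) (nat_lit 40) z1 u (Nat.mod (MG u) M)) (mRel MG [T_ai, T_di, T_a, T_b, T_di, T_ai, T_di, T_bi, T_ai, T_d] [T_b, T_di, T_ai] M (Nat.sub (MG u) (Nat.mod (MG u) M)) (nat_lit 40) z1 u (Nat.mod (MG u) M)) (Nat.ble (nat_lit 186) j)) (Bool.rec (motive := fun _ => Bool) (mRel MG [T_a, T_b, T_di, T_ai, T_di, T_bi, T_ai, T_d, T_a, T_d, T_bi, T_ai] [T_d] M (Nat.sub (MG u) (Nat.mod (MG u) M)) (nat_lit 40) z1 u (Nat.mod (MG u) M)) (mRel MG [T_a, T_b] [T_d, T_a, T_d, T_bi, T_ai, T_di, T_a, T_b, T_di, T_ai, T_di] M (Nat.sub (MG u) (Nat.mod (MG u) M)) (nat_lit 40) z1 u (Nat.mod (MG u) M)) (Nat.ble (nat_lit 188) j)) (Nat.ble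 (nat_lit 187) j)) (Bool.rec (motive := fun _ => Bool) (Bool.rec (motive := fun _ => Bool) (mRel MG [T_ai, T_ai, T_d, T_a, T_a, T_a, T_b, T_d] [T_a, T_b, T_d, T_a, T_a, T_a, T_b] M (Nat.sub (MG u) (Nat.mod (MG u) M)) (nat_lit 40) z1 u (Nat.mod (MG u) M)) (mRel MG [T_ai, T_di, T_ai, T_ai, T_z, T_bi, T_a, T_b, T_d] [T_bi, T_d, T_bi] M (Nat.sub (MG u) (Nat.mod (MG u) M)) (nat_lit 40) z1 u (Nat.mod (MG u) M)) (Nat.ble (nat_lit 190) j)) (Bool.rec (motive := fun _ => Bool) (mRel MG [T_bi, T_a, T_b] [T_z, T_a, T_a, T_d, T_a, T_bi, T_d, T_bi, T_di] M (Nat.sub (MG u) (Nat.mod (MG u) M)) (nat_lit 40) z1 u (Nat.mod (MG u) M)) (mRel MG [T_d, T_bi, T_di] [T_b, T_ai, T_di, T_ai, T_ai, T_z, T_bi, T_a, T_b] M (Nat.sub (MG u) (Nat.mod (MG u) M)) (nat_lit 40) z1 u (Nat.mod (MG u) M)) (Nat.ble (nat_lit 192) j)) (Nat.ble (nat_lit 191) j)) (Nat.ble (nat_lit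 189) j)
noncomputable def dM_40 (j z1 z2 u : ℕ) : Bool :=
  Bool.rec (motive := fun _ => Bool) (dM_38 j z1 z2 u) (dM_39 j z1 z2 u) (Nat.ble (nat_lit 185) j)
noncomputable def dM_41 (j z1 z2 u : ℕ) : Bool :=
  Bool.rec (motive := fun _ => Bool) (dM_37 j z1 z2 u) (dM_40 j z1 z2 u) (Nat.ble (nat_lit 177) j)
noncomputable def dM_42 (j z1 z2 u : ℕ) : Bool :=
  Bool.rec (motive := fun _ => Bool) (dM_34 j z1 z2 u) (dM_41 j z1 z2 u) (Nat.ble (nat_lit 162) j)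
noncomputable def dM_43 (j z1 z2 u : ℕ) : Bool :=
  Bool.rec (motive := fun _ => Bool) (dM_29 j z1 z2 u) (dM_42 j z1 z2 u) (Nat.ble (nat_lit 137) j)
noncomputable def dM_44 (j z1 z2 u : ℕ) : Bool :=
  Bool.rec (motive := fun _ => Bool) (Bool.rec (motive := fun _ => Bool) (mRel MG [T_ai, T_di, T_bi, T_ai, T_d, T_a, T_d, T_bi] [T_d, T_bi, T_ai, T_d, T_a] M (Nat.sub (MG u) (Nat.mod (MG u) M)) (nat_lit 40) z1 u (Nat.mod (MG u) M)) (Bool.rec (motive := fun _ => Bool) (mRel MG [T_ai, T_z, T_bi, T_a] [T_a, T_d, T_a, T_bi, T_d, T_bi, T_di, T_bi] M (Nat.sub (MG u) (Nat.mod (MG u) M)) (nat_lit 40) z1 u (Nat.mod (MG u) M)) (mRel MG [T_bi, T_a, T_bi] [T_a, T_bi, T_a, T_bi, T_ai, T_ai] M (Nat.sub (MG u) (Nat.mod (MG u) M)) (nat_lit 40) z1 u (Nat.mod (MG u) M)) (Nat.ble (nat_lit 195) j)) (Nat.ble (nat_lit 194) j)) (Bool.rec (motive := fun _ => Bool)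 (Bool.rec (motive := fun _ => Bool) (mRel MG [T_b, T_di, T_b, T_ai] [T_di, T_b, T_ai, T_bi, T_di, T_a, T_b, T_ai, T_b, T_d, T_b] M (Nat.sub (MG u) (Nat.mod (MG u) M)) (nat_lit 40) z1 u (Nat.mod (MG u) M)) (mRel MG [T_z, T_d, T_z] [T_d] M (Nat.sub (MG u) (Nat.mod (MG u) M)) (nat_lit 40) z1 u (Nat.mod (MG u) M)) (Nat.ble (nat_lit 197) j)) (Bool.rec (motive := fun _ => Bool) (mRel MG [T_a, T_bi] [T_b, T_a, T_bi, T_a, T_bi, T_ai, T_ai] M (Nat.sub (MG u) (Nat.mod (MG u) M)) (nat_lit 40) z1 u (Nat.mod (MG u) M)) (mRel MG [T_d, T_a, T_d, T_bi, T_ai, T_d, T_a, T_b, T_di] [T_bi, T_ai, T_d, T_a] M (Nat.sub (MG u) (Nat.mod (MG u) M)) (nat_lit 40) z1 u (Nat.mod (MG u) M)) (Nat.ble (nat_lit 199) j)) (Nat.ble (nat_lit 198) j)) (Nat.ble (nat_lit 196) j)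
noncomputable def dM_45 (j z1 z2 u : ℕ) : Bool :=
  Bool.rec (motive := fun _ => Bool) (Bool.rec (motive := fun _ => Bool) (Bool.rec (motive := fun _ => Bool) (mRel MG [T_ai, T_b, T_a, T_bi] [T_bi, T_a, T_a, T_b, T_ai] M (Nat.sub (MG u) (Nat.mod (MG u) M)) (nat_lit 40) z1 u (Nat.mod (MG u) M)) (mRel MG [T_a, T_bi, T_a, T_a, T_b] [T_b, T_a, T_bi, T_a] M (Nat.sub (MG u) (Nat.mod (MG u) M)) (nat_lit 40) z1 u (Nat.mod (MG u) M)) (Nat.ble (nat_lit 201) j)) (Bool.rec (motive := fun _ => Bool) (mRel MG [T_ai, T_di, T_bi, T_ai, T_d, T_a, T_d] [T_d, T_bi, T_ai, T_d, T_a, T_b] M (Nat.sub (MG u) (Nat.mod (MG u) M)) (nat_lit 40) z1 u (Nat.mod (MG u) M)) (mRel MG [T_bi, T_a, T_bi, T_ai, T_ai, T_b] [T_ai, T_bi, T_a] M (Nat.sub (MG u) (Nat.mod (MG u) M)) (nat_lit 40) z1 u (Nat.mod (MG u) M)) (Nat.ble (nat_lit 203) j)) (Nat.ble (nat_lit 202) j)) (Bool.rec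 (motive := fun _ => Bool) (Bool.rec (motive := fun _ => Bool) (mRel MG [T_b, T_a, T_bi, T_d, T_bi, T_di, T_b, T_ai, T_bi, T_di, T_a, T_b, T_ai, T_b] [T_di] M (Nat.sub (MG u) (Nat.mod (MG u) M)) (nat_lit 40) z1 u (Nat.mod (MG u) M)) (mRel MG [T_bi, T_ai, T_ai, T_ai, T_di, T_a, T_a, T_a, T_b, T_d, T_a, T_a, T_a] [T_d, T_bi] M (Nat.sub (MG u) (Nat.mod (MG u) M)) (nat_lit 40) z1 u (Nat.mod (MG u) M)) (Nat.ble (nat_lit 205) j)) (Bool.rec (motive := fun _ => Bool) (mRel MG [T_a, T_b] [T_ai, T_b, T_ai, T_b, T_a, T_bi, T_a] M (Nat.sub (MG u) (Nat.mod (MG u) M)) (nat_lit 40) z1 u (Nat.mod (MG u) M)) (mRel MG [T_ai, T_di, T_a, T_b, T_d] [T_d, T_bi, T_ai, T_di, T_a, T_b, T_di, T_ai] M (Nat.sub (MG u) (Nat.mod (MG u) M)) (nat_lit 40) z1 u (Nat.mod (MG u) M)) (Nat.ble (nat_lit 207) j)) (Nat.ble (nat_lit 206) j)) (Nat.ble (nat_lit 204) j)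
noncomputable def dM_46 (j z1 z2 u : ℕ) : Bool :=
  Bool.rec (motive := fun _ => Bool) (dM_44 j z1 z2 u) (dM_45 j z1 z2 u) (Nat.ble (nat_lit 200) j)
noncomputable def dM_47 (j z1 z2 u : ℕ) : Bool :=
  Bool.rec (motive := fun _ => Bool) (Bool.rec (motive := fun _ => Bool) (mRel MG [T_d, T_bi, T_ai, T_d, T_a, T_b, T_di, T_ai, T_di, T_a, T_b] [T_ai, T_di] M (Nat.sub (MG u) (Nat.mod (MG u) M)) (nat_lit 40) z1 u (Nat.mod (MG u) M)) (Bool.rec (motive := fun _ => Bool) (mRel MG [T_a, T_d, T_bi, T_ai, T_d, T_a] [T_di, T_bi, T_ai, T_d, T_a, T_d, T_bi] M (Nat.sub (MG u) (Nat.mod (MG u) M)) (nat_lit 40) z1 u (Nat.mod (MG u) M)) (mRel MG [T_b, T_z, T_a, T_a] [T_a, T_b, T_d, T_b, T_di, T_b, T_ai, T_di] M (Nat.sub (MG u) (Nat.mod (MG u) M)) (nat_lit 40) z1 u (Nat.mod (MG u) M)) (Nat.ble (nat_lit 210) j)) (Nat.ble (nat_lit 209) j)) (Bool.rec (motive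 := fun _ => Bool) (Bool.rec (motive := fun _ => Bool) (mRel MG [T_a, T_bi, T_a, T_a, T_b, T_ai] [T_b, T_a, T_bi] M (Nat.sub (MG u) (Nat.mod (MG u) M)) (nat_lit 40) z1 u (Nat.mod (MG u) M)) (mRel MG [T_bi, T_ai, T_d, T_a, T_b] [T_di, T_ai, T_di, T_bi, T_ai, T_d, T_a, T_d] M (Nat.sub (MG u) (Nat.mod (MG u) M)) (nat_lit 40) z1 u (Nat.mod (MG u) M)) (Nat.ble (nat_lit 212) j)) (Bool.rec (motive := fun _ => Bool) (mRel MG [T_bi, T_a, T_bi, T_a, T_a, T_b, T_ai] [T_a, T_bi] M (Nat.sub (MG u) (Nat.mod (MG u) M)) (nat_lit 40) z1 u (Nat.mod (MG u) M)) (mRel MG [T_b, T_d, T_b] [T_ai, T_b, T_z, T_a, T_a, T_d, T_a, T_bi, T_d] M (Nat.sub (MG u) (Nat.mod (MG u) M)) (nat_lit 40) z1 u (Nat.mod (MG u) M)) (Nat.ble (nat_lit 214) j)) (Nat.ble (nat_lit 213) j)) (Nat.ble (nat_lit 211) j)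
noncomputable def dM_48 (j z1 z2 u : ℕ) : Bool :=
  Bool.rec (motive := fun _ => Bool) (Bool.rec (motive := fun _ => Bool) (Bool.rec (motive := fun _ => Bool) (mRel MG [T_bi, T_ai, T_di, T_a, T_b, T_di, T_ai, T_di] [T_di, T_ai, T_di, T_a, T_b] M (Nat.sub (MG u) (Nat.mod (MG u) M)) (nat_lit 40) z1 u (Nat.mod (MG u) M)) (mRel MG [T_a, T_b, T_d, T_a] [T_d, T_a, T_d, T_bi, T_ai, T_di, T_a, T_b, T_di] M (Nat.sub (MG u) (Nat.mod (MG u) M)) (nat_lit 40) z1 u (Nat.mod (MG u) M)) (Nat.ble (nat_lit 216) j)) (Bool.rec (motive := fun _ => Bool) (mRel MG [T_b, T_ai, T_di, T_ai, T_ai, T_z] [T_d, T_bi, T_di, T_bi, T_ai, T_b] M (Nat.sub (MG u) (Nat.mod (MG u) M)) (nat_lit 40) z1 u (Nat.mod (MG u) M)) (mRel MG [T_bi, T_d, T_bi] [T_ai, T_di, T_ai, T_ai, T_z, T_bi, T_a, T_b, T_d] M (Nat.sub (MG u) (Nat.mod (MG u) M)) (nat_lit 40) z1 u (Nat.mod (MG u)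 M)) (Nat.ble (nat_lit 218) j)) (Nat.ble (nat_lit 217) j)) (Bool.rec (motive := fun _ => Bool) (Bool.rec (motive := fun _ => Bool) (mRel MG [T_ai, T_b] [T_a, T_b, T_ai, T_b, T_ai, T_bi, T_a] M (Nat.sub (MG u) (Nat.mod (MG u) M)) (nat_lit 40) z1 u (Nat.mod (MG u) M)) (mRel MG [T_b, T_d, T_b, T_di, T_b, T_ai] [T_ai, T_b, T_z, T_a, T_a, T_d] M (Nat.sub (MG u) (Nat.mod (MG u) M)) (nat_lit 40) z1 u (Nat.mod (MG u) M)) (Nat.ble (nat_lit 220) j)) (Bool.rec (motive := fun _ => Bool) (mRel MG [T_ai, T_d, T_a, T_d, T_bi, T_ai, T_di, T_a, T_b] [T_b, T_d, T_a, T_d] M (Nat.sub (MG u) (Nat.mod (MG u) M)) (nat_lit 40) z1 u (Nat.mod (MG u) M)) (mRel MG [T_ai, T_b, T_z, T_a, T_a, T_d, T_a, T_bi] [T_b, T_d, T_b, T_di] M (Nat.sub (MG u) (Nat.mod (MG u) M)) (nat_lit 40) z1 u (Nat.mod (MG u) M)) (Nat.ble (nat_lit 222) j)) (Nat.ble (nat_lit 221) j)) (Nat.ble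 (nat_lit 219) j)
noncomputable def dM_49 (j z1 z2 u : ℕ) : Bool :=
  Bool.rec (motive := fun _ => Bool) (dM_47 j z1 z2 u) (dM_48 j z1 z2 u) (Nat.ble (nat_lit 215) j)
noncomputable def dM_50 (j z1 z2 u : ℕ) : Bool :=
  Bool.rec (motive := fun _ => Bool) (dM_46 j z1 z2 u) (dM_49 j z1 z2 u) (Nat.ble (nat_lit 208) j)
noncomputable def dM_51 (j z1 z2 u : ℕ) : Bool :=
  Bool.rec (motive := fun _ => Bool) (Bool.rec (motive := fun _ => Bool) (mRel MG [T_a, T_b, T_d, T_b, T_di, T_b, T_ai, T_di] [T_b, T_z, T_a, T_a] M (Nat.sub (MG u) (Nat.mod (MG u) M)) (nat_lit 40) z1 u (Nat.mod (MG u) M)) (Bool.rec (motive := fun _ => Bool) (mRel MG [T_a, T_a, T_b, T_d, T_bi, T_ai, T_ai, T_ai, T_di] [T_ai, T_di, T_a, T_a, T_a, T_b] M (Nat.sub (MG u) (Nat.mod (MG u) M)) (nat_lit 40) z1 u (Nat.mod (MG u) M)) (mRel MG [T_ai, T_ai, T_z, T_bi, T_a, T_b] [T_d, T_a,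 T_bi, T_d, T_bi, T_di] M (Nat.sub (MG u) (Nat.mod (MG u) M)) (nat_lit 40) z1 u (Nat.mod (MG u) M)) (Nat.ble (nat_lit 225) j)) (Nat.ble (nat_lit 224) j)) (Bool.rec (motive := fun _ => Bool) (Bool.rec (motive := fun _ => Bool) (mRel MG [T_b, T_a] [T_ai, T_bi, T_ai, T_bi] M (Nat.sub (MG u) (Nat.mod (MG u) M)) (nat_lit 40) z1 u (Nat.mod (MG u) M)) (mRel MG [T_di, T_b, T_ai, T_di, T_ai, T_ai, T_z, T_bi, T_a, T_b] [T_bi, T_di] M (Nat.sub (MG u) (Nat.mod (MG u) M)) (nat_lit 40) z1 u (Nat.mod (MG u) M)) (Nat.ble (nat_lit 227) j)) (Bool.rec (motive := fun _ => Bool) (mRel MG [T_ai, T_ai] [T_a, T_b, T_di, T_bi, T_ai, T_ai, T_ai, T_di, T_a, T_a, T_a, T_b, T_d] M (Nat.sub (MG u) (Nat.mod (MG u) M)) (nat_lit 40) z1 u (Nat.mod (MG u) M)) (mRel MG [T_a, T_d, T_a, T_bi, T_d, T_bi, T_di, T_bi, T_ai, T_b] [T_ai, T_z] M (Nat.sub (MG u) (Nat.mod (MG u)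 M)) (nat_lit 40) z1 u (Nat.mod (MG u) M)) (Nat.ble (nat_lit 229) j)) (Nat.ble (nat_lit 228) j)) (Nat.ble (nat_lit 226) j)
noncomputable def dM_52 (j z1 z2 u : ℕ) : Bool :=
  Bool.rec (motive := fun _ => Bool) (Bool.rec (motive := fun _ => Bool) (Bool.rec (motive := fun _ => Bool) (mRel MG [T_ai, T_z, T_bi, T_a, T_b] [T_a, T_d, T_a, T_bi, T_d, T_bi, T_di] M (Nat.sub (MG u) (Nat.mod (MG u) M)) (nat_lit 40) z1 u (Nat.mod (MG u) M)) (mRel MG [T_ai, T_di, T_ai, T_ai, T_z, T_bi, T_a, T_b] [T_bi, T_d, T_bi, T_di] M (Nat.sub (MG u) (Nat.mod (MG u) M)) (nat_lit 40) z1 u (Nat.mod (MG u) M)) (Nat.ble (nat_lit 231) j)) (Bool.rec (motive := fun _ => Bool) (mRel MG [T_d, T_bi, T_ai, T_di, T_a, T_b, T_di, T_ai] [T_ai, T_di, T_a, T_b, T_d] M (Nat.sub (MG u) (Nat.mod (MG u) M)) (nat_lit 40) z1 u (Nat.mod (MG u) M)) (mRel MG [T_b, T_ai, T_bi, T_di]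 [T_d, T_b, T_di, T_b, T_ai, T_bi, T_di, T_bi, T_a, T_bi, T_ai] M (Nat.sub (MG u) (Nat.mod (MG u) M)) (nat_lit 40) z1 u (Nat.mod (MG u) M)) (Nat.ble (nat_lit 233) j)) (Nat.ble (nat_lit 232) j)) (Bool.rec (motive := fun _ => Bool) (Bool.rec (motive := fun _ => Bool) (mRel MG [T_b, T_z, T_a, T_a, T_d, T_a, T_bi, T_d, T_bi, T_di] [T_a, T_b] M (Nat.sub (MG u) (Nat.mod (MG u) M)) (nat_lit 40) z1 u (Nat.mod (MG u) M)) (mRel MG [T_z, T_ai, T_z] [T_ai] M (Nat.sub (MG u) (Nat.mod (MG u) M)) (nat_lit 40) z1 u (Nat.mod (MG u) M)) (Nat.ble (nat_lit 235) j)) (Bool.rec (motive := fun _ => Bool) (mRel MG [T_a, T_bi, T_d, T_bi, T_di] [T_di, T_ai, T_ai, T_z, T_bi, T_a, T_b] M (Nat.sub (MG u) (Nat.mod (MG u) M)) (nat_lit 40) z1 u (Nat.mod (MG u) M)) (mRel MG [T_d, T_a, T_d, T_bi, T_ai, T_d] [T_bi, T_ai, T_d, T_a, T_d, T_bi, T_ai] M (Nat.sub (MG u) (Nat.mod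 (MG u) M)) (nat_lit 40) z1 u (Nat.mod (MG u) M)) (Nat.ble (nat_lit 237) j)) (Nat.ble (nat_lit 236) j)) (Nat.ble (nat_lit 234) j)
noncomputable def dM_53 (j z1 z2 u : ℕ) : Bool :=
  Bool.rec (motive := fun _ => Bool) (dM_51 j z1 z2 u) (dM_52 j z1 z2 u) (Nat.ble (nat_lit 230) j)
noncomputable def dM_54 (j z1 z2 u : ℕ) : Bool :=
  Bool.rec (motive := fun _ => Bool) (Bool.rec (motive := fun _ => Bool) (mRel MG [T_bi, T_a, T_bi, T_ai] [T_ai, T_bi, T_a, T_bi, T_a] M (Nat.sub (MG u) (Nat.mod (MG u) M)) (nat_lit 40) z1 u (Nat.mod (MG u) M)) (Bool.rec (motive := fun _ => Bool) (mRel MG [T_bi, T_a, T_b, T_d, T_b, T_di] [T_z, T_a, T_a, T_d, T_a, T_bi] M (Nat.sub (MG u) (Nat.mod (MG u) M)) (nat_lit 40) z1 u (Nat.mod (MG u) M)) (mRel MG [T_di, T_bi, T_ai, T_b, T_z, T_a, T_a, T_d, T_a] [T_b, T_di, T_b] M (Nat.sub (MG u) (Nat.mod (MG u) M)) (nat_lit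 40) z1 u (Nat.mod (MG u) M)) (Nat.ble (nat_lit 240) j)) (Nat.ble (nat_lit 239) j)) (Bool.rec (motive := fun _ => Bool) (Bool.rec (motive := fun _ => Bool) (mRel MG [T_bi, T_a, T_a, T_b, T_ai, T_b, T_ai] [T_ai, T_b] M (Nat.sub (MG u) (Nat.mod (MG u) M)) (nat_lit 40) z1 u (Nat.mod (MG u) M)) (mRel MG [T_b, T_b] [T_bi] M (Nat.sub (MG u) (Nat.mod (MG u) M)) (nat_lit 40) z1 u (Nat.mod (MG u) M)) (Nat.ble (nat_lit 242) j)) (Bool.rec (motive := fun _ => Bool) (mRel MG [T_ai, T_b] [T_bi, T_a, T_a, T_b, T_ai, T_b, T_ai] M (Nat.sub (MG u) (Nat.mod (MG u) M)) (nat_lit 40) z1 u (Nat.mod (MG u) M)) (mRel MG [T_b, T_a, T_bi, T_a, T_bi, T_ai, T_ai] [T_a, T_bi] M (Nat.sub (MG u) (Nat.mod (MG u) M)) (nat_lit 40) z1 u (Nat.mod (MG u) M)) (Nat.ble (nat_lit 244) j)) (Nat.ble (nat_lit 243) j)) (Nat.ble (nat_lit 241) j)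
noncomputable def dM_55 (j z1 z2 u : ℕ) : Bool :=
  Bool.rec (motive := fun _ => Bool) (Bool.rec (motive := fun _ => Bool) (Bool.rec (motive := fun _ => Bool) (mRel MG [T_ai, T_z, T_bi, T_a, T_b, T_d, T_b, T_di, T_b, T_ai, T_di] [T_a] M (Nat.sub (MG u) (Nat.mod (MG u) M)) (nat_lit 40) z1 u (Nat.mod (MG u) M)) (mRel MG [T_a, T_b, T_di, T_ai] [T_d, T_a, T_b, T_di, T_ai, T_di, T_a, T_b, T_d] M (Nat.sub (MG u) (Nat.mod (MG u) M)) (nat_lit 40) z1 u (Nat.mod (MG u) M)) (Nat.ble (nat_lit 246) j)) (Bool.rec (motive := fun _ => Bool) (mRel MG [T_bi, T_ai, T_ai, T_b, T_ai, T_b, T_a] [T_ai, T_b] M (Nat.sub (MG u) (Nat.mod (MG u) M)) (nat_lit 40) z1 u (Nat.mod (MG u) M)) (mRel MG [T_di, T_ai, T_ai, T_z, T_bi, T_a, T_b, T_d, T_b, T_di, T_b, T_ai] [] M (Nat.sub (MG u) (Nat.mod (MG u) M)) (nat_lit 40) z1 u (Nat.mod (MG u) M)) (Nat.ble (nat_lit 248)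 j)) (Nat.ble (nat_lit 247) j)) (Bool.rec (motive := fun _ => Bool) (Bool.rec (motive := fun _ => Bool) (mRel MG [T_b, T_ai, T_di, T_ai, T_ai, T_z, T_bi, T_a, T_b, T_d] [T_d, T_bi] M (Nat.sub (MG u) (Nat.mod (MG u) M)) (nat_lit 40) z1 u (Nat.mod (MG u) M)) (mRel MG [T_b, T_ai] [T_ai, T_ai, T_b, T_ai, T_b, T_a, T_bi] M (Nat.sub (MG u) (Nat.mod (MG u) M)) (nat_lit 40) z1 u (Nat.mod (MG u) M)) (Nat.ble (nat_lit 250) j)) (Bool.rec (motive := fun _ => Bool) (mRel MG [T_a, T_d, T_bi, T_ai, T_di, T_a, T_b, T_di, T_ai, T_di, T_bi] [T_di, T_a] M (Nat.sub (MG u) (Nat.mod (MG u) M)) (nat_lit 40) z1 u (Nat.mod (MG u) M)) (mRel MG [T_bi, T_d, T_bi, T_di] [T_ai, T_di, T_ai, T_ai, T_z, T_bi, T_a, T_b] M (Nat.sub (MG u) (Nat.mod (MG u) M)) (nat_lit 40) z1 u (Nat.mod (MG u) M)) (Nat.ble (nat_lit 252) j)) (Nat.ble (nat_lit 251) j)) (Nat.ble (nat_lit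 249) j)
noncomputable def dM_56 (j z1 z2 u : ℕ) : Bool :=
  Bool.rec (motive := fun _ => Bool) (dM_54 j z1 z2 u) (dM_55 j z1 z2 u) (Nat.ble (nat_lit 245) j)
noncomputable def dM_57 (j z1 z2 u : ℕ) : Bool :=
  Bool.rec (motive := fun _ => Bool) (dM_53 j z1 z2 u) (dM_56 j z1 z2 u) (Nat.ble (nat_lit 238) j)
noncomputable def dM_58 (j z1 z2 u : ℕ) : Bool :=
  Bool.rec (motive := fun _ => Bool) (dM_50 j z1 z2 u) (dM_57 j z1 z2 u) (Nat.ble (nat_lit 223) j)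
noncomputable def dM_59 (j z1 z2 u : ℕ) : Bool :=
  Bool.rec (motive := fun _ => Bool) (Bool.rec (motive := fun _ => Bool) (mRel MG [T_b, T_ai, T_b, T_ai, T_bi, T_a, T_bi, T_a] [T_ai] M (Nat.sub (MG u) (Nat.mod (MG u) M)) (nat_lit 40) z1 u (Nat.mod (MG u) M)) (Bool.rec (motive := fun _ => Bool) (mRel MG [T_b] [T_di, T_bi, T_ai, T_b, T_z, T_a, T_a, T_d, T_a, T_bi, T_d] M (Nat.sub (MG u) (Nat.mod (MG u) M)) (nat_lit 40) z1 u (Nat.mod (MG u) M)) (mRel MG [T_a, T_a, T_b, T_ai, T_b] [T_b, T_ai, T_b, T_a] M (Nat.sub (MG u) (Nat.mod (MG u) M)) (nat_lit 40) z1 u (Nat.mod (MG u) M)) (Nat.ble (nat_lit 255) j)) (Nat.ble (nat_lit 254) j)) (Bool.rec (motive := fun _ => Bool) (Bool.rec (motive := fun _ => Bool) (mRel MG [T_a, T_b, T_di, T_ai, T_di, T_bi, T_ai, T_d, T_a] [T_d, T_a, T_b, T_di] M (Nat.sub (MG u) (Nat.mod (MG u) M)) (nat_lit 40) z1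 u (Nat.mod (MG u) M)) (mRel MG [T_a, T_d, T_bi, T_ai, T_di, T_a, T_b, T_di, T_ai] [T_di, T_a, T_b, T_d] M (Nat.sub (MG u) (Nat.mod (MG u) M)) (nat_lit 40) z1 u (Nat.mod (MG u) M)) (Nat.ble (nat_lit 257) j)) (Bool.rec (motive := fun _ => Bool) (mRel MG [T_d, T_bi, T_ai, T_d, T_a, T_b, T_di, T_ai, T_di] [T_ai, T_di, T_bi, T_ai] M (Nat.sub (MG u) (Nat.mod (MG u) M)) (nat_lit 40) z1 u (Nat.mod (MG u) M)) (mRel MG [T_di, T_a, T_b, T_di, T_ai, T_di, T_bi, T_ai, T_d] [T_a, T_b, T_di, T_ai] M (Nat.sub (MG u) (Nat.mod (MG u) M)) (nat_lit 40) z1 u (Nat.mod (MG u) M)) (Nat.ble (nat_lit 259) j)) (Nat.ble (nat_lit 258) j)) (Nat.ble (nat_lit 256) j)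
noncomputable def dM_60 (j z1 z2 u : ℕ) : Bool :=
  Bool.rec (motive := fun _ => Bool) (Bool.rec (motive := fun _ => Bool) (Bool.rec (motive := fun _ => Bool) (mRel MG [T_d, T_a] [T_ai, T_ai, T_z, T_bi, T_a, T_b, T_d, T_b, T_di, T_b] M (Nat.sub (MG u) (Nat.mod (MG u) M)) (nat_lit 40) z1 u (Nat.mod (MG u) M)) (mRel MG [T_d, T_b, T_di, T_b, T_ai, T_di] [T_bi, T_ai, T_b, T_z, T_a, T_a] M (Nat.sub (MG u) (Nat.mod (MG u) M)) (nat_lit 40) z1 u (Nat.mod (MG u) M)) (Nat.ble (nat_lit 261) j)) (Bool.rec (motive := fun _ => Bool) (mRel MG [T_d, T_a, T_d, T_bi, T_ai] [T_bi, T_ai, T_d, T_a, T_d, T_bi, T_ai, T_di] M (Nat.sub (MG u) (Nat.mod (MG u) M)) (nat_lit 40) z1 u (Nat.mod (MG u) M)) (mRel MG [T_b, T_ai, T_di, T_ai, T_ai, T_z, T_bi, T_a, T_b, T_d, T_b, T_di] [] M (Nat.sub (MG u) (Nat.mod (MG u) M)) (nat_lit 40) z1 u (Nat.mod (MG u) M)) (Nat.ble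 (nat_lit 263) j)) (Nat.ble (nat_lit 262) j)) (Bool.rec (motive := fun _ => Bool) (Bool.rec (motive := fun _ => Bool) (mRel MG [T_a, T_b, T_di, T_ai, T_di, T_a, T_b, T_d] [T_di, T_a, T_b, T_di, T_ai] M (Nat.sub (MG u) (Nat.mod (MG u) M)) (nat_lit 40) z1 u (Nat.mod (MG u) M)) (mRel MG [T_d, T_a, T_b, T_di, T_ai, T_di, T_a, T_b, T_d, T_a] [T_a, T_b, T_di] M (Nat.sub (MG u) (Nat.mod (MG u) M)) (nat_lit 40) z1 u (Nat.mod (MG u) M)) (Nat.ble (nat_lit 265) j)) (Bool.rec (motive := fun _ => Bool) (mRel MG [T_ai, T_d, T_a, T_d] [T_b, T_d, T_a, T_d, T_bi, T_ai, T_d, T_a, T_b] M (Nat.sub (MG u) (Nat.mod (MG u) M)) (nat_lit 40) z1 u (Nat.mod (MG u) M)) (mRel MG [T_bi] [T_di, T_b, T_ai, T_di, T_ai, T_ai, T_z, T_bi, T_a, T_b, T_d] M (Nat.sub (MG u) (Nat.mod (MG u) M)) (nat_lit 40) z1 u (Nat.mod (MG u) M)) (Nat.ble (nat_lit 267) j)) (Nat.ble (nat_lit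 266) j)) (Nat.ble (nat_lit 264) j)
noncomputable def dM_61 (j z1 z2 u : ℕ) : Bool :=
  Bool.rec (motive := fun _ => Bool) (dM_59 j z1 z2 u) (dM_60 j z1 z2 u) (Nat.ble (nat_lit 260) j)
noncomputable def dM_62 (j z1 z2 u : ℕ) : Bool :=
  Bool.rec (motive := fun _ => Bool) (Bool.rec (motive := fun _ => Bool) (mRel MG [T_ai, T_ai, T_z, T_bi, T_a, T_b, T_d, T_b, T_di, T_b, T_ai, T_di] [] M (Nat.sub (MG u) (Nat.mod (MG u) M)) (nat_lit 40) z1 u (Nat.mod (MG u) M)) (Bool.rec (motive := fun _ => Bool) (mRel MG [T_b, T_di] [T_di, T_bi, T_ai, T_b, T_z, T_a, T_a, T_d, T_a, T_bi] M (Nat.sub (MG u) (Nat.mod (MG u) M)) (nat_lit 40) z1 u (Nat.mod (MG u) M)) (mRel MG [T_bi, T_ai, T_b, T_z, T_a, T_a, T_d, T_a, T_bi, T_d] [T_d, T_b] M (Nat.sub (MG u) (Nat.mod (MG u) M)) (nat_lit 40) z1 u (Nat.mod (MG u) M)) (Nat.ble (nat_lit 270) j)) (Nat.ble (nat_lit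 269) j)) (Bool.rec (motive := fun _ => Bool) (Bool.rec (motive := fun _ => Bool) (mRel MG [T_bi, T_ai, T_b, T_z, T_a] [T_d, T_b, T_di, T_b, T_ai, T_di, T_ai] M (Nat.sub (MG u) (Nat.mod (MG u) M)) (nat_lit 40) z1 u (Nat.mod (MG u) M)) (mRel MG [T_bi, T_a, T_bi] [T_ai, T_bi, T_a, T_bi, T_a, T_a] M (Nat.sub (MG u) (Nat.mod (MG u) M)) (nat_lit 40) z1 u (Nat.mod (MG u) M)) (Nat.ble (nat_lit 272) j)) (Bool.rec (motive := fun _ => Bool) (mRel MG [T_bi, T_di, T_bi, T_ai, T_b, T_z, T_a] [T_di, T_b, T_ai, T_di, T_ai] M (Nat.sub (MG u) (Nat.mod (MG u) M)) (nat_lit 40) z1 u (Nat.mod (MG u) M)) (mRel MG [T_di, T_ai, T_di, T_bi, T_ai, T_d, T_a, T_d, T_bi, T_ai] [T_bi, T_ai, T_d] M (Nat.sub (MG u) (Nat.mod (MG u) M)) (nat_lit 40) z1 u (Nat.mod (MG u) M)) (Nat.ble (nat_lit 274) j)) (Nat.ble (nat_lit 273) j)) (Nat.ble (nat_lit 271) j)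
noncomputable def dM_63 (j z1 z2 u : ℕ) : Bool :=
  Bool.rec (motive := fun _ => Bool) (Bool.rec (motive := fun _ => Bool) (Bool.rec (motive := fun _ => Bool) (mRel MG [T_a, T_d] [T_di, T_bi, T_ai, T_d, T_a, T_d, T_bi, T_ai, T_di, T_a, T_b] M (Nat.sub (MG u) (Nat.mod (MG u) M)) (nat_lit 40) z1 u (Nat.mod (MG u) M)) (mRel MG [T_z, T_bi, T_a, T_b, T_d, T_b, T_di, T_b] [T_a, T_a, T_d, T_a] M (Nat.sub (MG u) (Nat.mod (MG u) M)) (nat_lit 40) z1 u (Nat.mod (MG u) M)) (Nat.ble (nat_lit 276) j)) (Bool.rec (motive := fun _ => Bool) (mRel MG [T_a, T_d, T_a, T_bi, T_d] [T_ai, T_z, T_bi, T_a, T_b, T_d, T_b] M (Nat.sub (MG u) (Nat.mod (MG u) M)) (nat_lit 40) z1 u (Nat.mod (MG u) M)) (mRel MG [T_b, T_ai, T_b, T_ai, T_bi] [T_ai, T_ai, T_b, T_ai] M (Nat.sub (MG u) (Nat.mod (MG u) M)) (nat_lit 40) z1 u (Nat.mod (MG u) M)) (Nat.ble (nat_lit 278) j))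 (Nat.ble (nat_lit 277) j)) (Bool.rec (motive := fun _ => Bool) (Bool.rec (motive := fun _ => Bool) (mRel MG [T_di, T_a, T_b, T_di, T_ai, T_di, T_bi, T_ai, T_d, T_a, T_d] [T_a, T_b] M (Nat.sub (MG u) (Nat.mod (MG u) M)) (nat_lit 40) z1 u (Nat.mod (MG u) M)) (mRel MG [T_di, T_b, T_ai, T_di, T_ai, T_ai, T_z, T_bi, T_a] [T_bi, T_di, T_bi] M (Nat.sub (MG u) (Nat.mod (MG u) M)) (nat_lit 40) z1 u (Nat.mod (MG u) M)) (Nat.ble (nat_lit 280) j)) (Bool.rec (motive := fun _ => Bool) (mRel MG [T_b, T_ai, T_bi, T_a, T_bi] [T_a, T_bi, T_ai, T_ai] M (Nat.sub (MG u) (Nat.mod (MG u) M)) (nat_lit 40) z1 u (Nat.mod (MG u) M)) (mRel MG [T_b, T_z, T_bi, T_z] [] M (Nat.sub (MG u) (Nat.mod (MG u) M)) (nat_lit 40) z1 u (Nat.mod (MG u) M)) (Nat.ble (nat_lit 282) j)) (Nat.ble (nat_lit 281) j)) (Nat.ble (nat_lit 279) j)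
noncomputable def dM_64 (j z1 z2 u : ℕ) : Bool :=
  Bool.rec (motive := fun _ => Bool) (dM_62 j z1 z2 u) (dM_63 j z1 z2 u) (Nat.ble (nat_lit 275) j)
noncomputable def dM_65 (j z1 z2 u : ℕ) : Bool :=
  Bool.rec (motive := fun _ => Bool) (dM_61 j z1 z2 u) (dM_64 j z1 z2 u) (Nat.ble (nat_lit 268) j)
noncomputable def dM_66 (j z1 z2 u : ℕ) : Bool :=
  Bool.rec (motive := fun _ => Bool) (Bool.rec (motive := fun _ => Bool) (mRel MG [T_ai, T_b, T_a] [T_bi, T_a, T_a, T_b, T_ai, T_b] M (Nat.sub (MG u) (Nat.mod (MG u) M)) (nat_lit 40) z1 u (Nat.mod (MG u) M)) (Bool.rec (motive := fun _ => Bool) (mRel MG [T_a, T_d] [T_ai, T_z, T_bi, T_a, T_b, T_d, T_b, T_di, T_b, T_ai] M (Nat.sub (MG u) (Nat.mod (MG u) M)) (nat_lit 40) z1 u (Nat.mod (MG u) M)) (mRel MG [T_ai, T_ai] [T_b, T_ai, T_b, T_ai, T_bi, T_a, T_bi] M (Nat.sub (MG u) (Nat.mod (MG u) M))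 (nat_lit 40) z1 u (Nat.mod (MG u) M)) (Nat.ble (nat_lit 285) j)) (Nat.ble (nat_lit 284) j)) (Bool.rec (motive := fun _ => Bool) (Bool.rec (motive := fun _ => Bool) (mRel MG [T_bi, T_ai, T_b, T_z, T_a, T_a, T_d, T_a] [T_d, T_b, T_di, T_b] M (Nat.sub (MG u) (Nat.mod (MG u) M)) (nat_lit 40) z1 u (Nat.mod (MG u) M)) (mRel MG [T_bi, T_ai, T_b, T_z, T_a, T_a, T_d, T_a, T_bi, T_d, T_bi, T_di] [] M (Nat.sub (MG u) (Nat.mod (MG u) M)) (nat_lit 40) z1 u (Nat.mod (MG u) M)) (Nat.ble (nat_lit 287) j)) (Bool.rec (motive := fun _ => Bool) (mRel MG [T_b, T_di, T_ai, T_di, T_a, T_b, T_d, T_a] [T_ai, T_di, T_a, T_b, T_di] M (Nat.sub (MG u) (Nat.mod (MG u) M)) (nat_lit 40) z1 u (Nat.mod (MG u) M)) (mRel MG [T_a, T_b, T_d, T_a] [T_ai, T_ai, T_d, T_a, T_a, T_a, T_b, T_d, T_bi, T_ai, T_ai] M (Nat.sub (MG u) (Nat.mod (MG u) M)) (nat_lit 40) z1 u (Nat.mod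 (MG u) M)) (Nat.ble (nat_lit 289) j)) (Nat.ble (nat_lit 288) j)) (Nat.ble (nat_lit 286) j)
noncomputable def dM_67 (j z1 z2 u : ℕ) : Bool :=
  Bool.rec (motive := fun _ => Bool) (Bool.rec (motive := fun _ => Bool) (Bool.rec (motive := fun _ => Bool) (mRel MG [T_a, T_bi, T_a] [T_b, T_a, T_bi, T_a, T_bi, T_ai] M (Nat.sub (MG u) (Nat.mod (MG u) M)) (nat_lit 40) z1 u (Nat.mod (MG u) M)) (mRel MG [T_d, T_bi, T_ai, T_di, T_a, T_b, T_di, T_ai, T_di, T_bi] [T_ai, T_di, T_a] M (Nat.sub (MG u) (Nat.mod (MG u) M)) (nat_lit 40) z1 u (Nat.mod (MG u) M)) (Nat.ble (nat_lit 291) j)) (Bool.rec (motive := fun _ => Bool) (mRel MG [T_ai, T_b, T_z, T_a, T_a, T_d, T_a, T_bi, T_d] [T_b, T_d, T_b] M (Nat.sub (MG u) (Nat.mod (MG u) M)) (nat_lit 40) z1 u (Nat.mod (MG u) M)) (mRel MG [T_b, T_a, T_bi] [T_a, T_bi, T_a, T_a, T_b, T_ai] M (Nat.sub (MG u) (Nat.mod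 (MG u) M)) (nat_lit 40) z1 u (Nat.mod (MG u) M)) (Nat.ble (nat_lit 293) j)) (Nat.ble (nat_lit 292) j)) (Bool.rec (motive := fun _ => Bool) (Bool.rec (motive := fun _ => Bool) (mRel MG [T_di, T_bi, T_ai, T_b, T_z, T_a, T_a, T_d, T_a, T_bi] [T_b, T_di] M (Nat.sub (MG u) (Nat.mod (MG u) M)) (nat_lit 40) z1 u (Nat.mod (MG u) M)) (mRel MG [T_bi, T_di, T_bi, T_ai, T_b, T_z, T_a, T_a, T_d, T_a, T_bi] [T_di] M (Nat.sub (MG u) (Nat.mod (MG u) M)) (nat_lit 40) z1 u (Nat.mod (MG u) M)) (Nat.ble (nat_lit 295) j)) (Bool.rec (motive := fun _ => Bool) (mRel MG [T_bi, T_ai, T_b, T_z, T_a, T_a, T_d] [T_d, T_b, T_di, T_b, T_ai] M (Nat.sub (MG u) (Nat.mod (MG u) M)) (nat_lit 40) z1 u (Nat.mod (MG u) M)) (mRel MG [T_di, T_ai, T_di, T_bi, T_ai, T_d, T_a, T_d, T_bi] [T_bi, T_ai, T_d, T_a] M (Nat.sub (MG u) (Nat.mod (MG u) M)) (nat_lit 40) z1 u (Nat.mod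 (MG u) M)) (Nat.ble (nat_lit 297) j)) (Nat.ble (nat_lit 296) j)) (Nat.ble (nat_lit 294) j)
noncomputable def dM_68 (j z1 z2 u : ℕ) : Bool :=
  Bool.rec (motive := fun _ => Bool) (dM_66 j z1 z2 u) (dM_67 j z1 z2 u) (Nat.ble (nat_lit 290) j)
noncomputable def dM_69 (j z1 z2 u : ℕ) : Bool :=
  Bool.rec (motive := fun _ => Bool) (Bool.rec (motive := fun _ => Bool) (Bool.rec (motive := fun _ => Bool) (mRel MG [T_bi, T_ai, T_bi, T_ai, T_bi] [T_a] M (Nat.sub (MG u) (Nat.mod (MG u) M)) (nat_lit 40) z1 u (Nat.mod (MG u) M)) (mRel MG [T_ai, T_b] [T_bi, T_ai, T_ai, T_b, T_ai, T_b, T_a] M (Nat.sub (MG u) (Nat.mod (MG u) M)) (nat_lit 40) z1 u (Nat.mod (MG u) M)) (Nat.ble (nat_lit 299) j)) (Bool.rec (motive := fun _ => Bool) (mRel MG [T_bi, T_di, T_bi, T_ai, T_b, T_z, T_a, T_a, T_d] [T_di, T_b, T_ai] M (Nat.sub (MG u) (Nat.mod (MG u) M)) (nat_lit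 40) z1 u (Nat.mod (MG u) M)) (mRel MG [T_ai, T_z, T_bi, T_a, T_b, T_d, T_b, T_di, T_b] [T_a, T_d, T_a] M (Nat.sub (MG u) (Nat.mod (MG u) M)) (nat_lit 40) z1 u (Nat.mod (MG u) M)) (Nat.ble (nat_lit 301) j)) (Nat.ble (nat_lit 300) j)) (Bool.rec (motive := fun _ => Bool) (Bool.rec (motive := fun _ => Bool) (mRel MG [T_bi, T_ai, T_di, T_a, T_b, T_di, T_ai, T_di, T_bi] [T_di, T_ai, T_di, T_a] M (Nat.sub (MG u) (Nat.mod (MG u) M)) (nat_lit 40) z1 u (Nat.mod (MG u) M)) (mRel MG [T_bi, T_a, T_a] [T_ai, T_b, T_a, T_bi, T_a, T_bi] M (Nat.sub (MG u) (Nat.mod (MG u) M)) (nat_lit 40) z1 u (Nat.mod (MG u) M)) (Nat.ble (nat_lit 303) j)) (Bool.rec (motive := fun _ => Bool) (mRel MG [T_ai, T_di, T_ai, T_ai] [T_bi, T_d, T_bi, T_di, T_bi, T_ai, T_b, T_z] M (Nat.sub (MG u) (Nat.mod (MG u) M)) (nat_lit 40) z1 u (Nat.mod (MG u) M)) (mRel MG [T_d, T_b, T_di,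 T_b, T_ai, T_di, T_ai] [T_bi, T_ai, T_b, T_z, T_a] M (Nat.sub (MG u) (Nat.mod (MG u) M)) (nat_lit 40) z1 u (Nat.mod (MG u) M)) (Nat.ble (nat_lit 305) j)) (Nat.ble (nat_lit 304) j)) (Nat.ble (nat_lit 302) j)
noncomputable def dM_70 (j z1 z2 u : ℕ) : Bool :=
  Bool.rec (motive := fun _ => Bool) (Bool.rec (motive := fun _ => Bool) (Bool.rec (motive := fun _ => Bool) (mRel MG [T_z, T_bi, T_a, T_b, T_d, T_b, T_di, T_b, T_ai, T_di, T_ai] [T_a] M (Nat.sub (MG u) (Nat.mod (MG u) M)) (nat_lit 40) z1 u (Nat.mod (MG u) M)) (mRel MG [T_ai, T_b, T_ai, T_bi, T_a, T_bi] [T_bi, T_ai, T_ai] M (Nat.sub (MG u) (Nat.mod (MG u) M)) (nat_lit 40) z1 u (Nat.mod (MG u) M)) (Nat.ble (nat_lit 307) j)) (Bool.rec (motive := fun _ => Bool) (mRel MG [T_a, T_bi, T_d, T_bi, T_di, T_bi] [T_di, T_ai, T_ai, T_z, T_bi, T_a] M (Nat.sub (MG u) (Nat.mod (MG u) M)) (nat_lit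 40) z1 u (Nat.mod (MG u) M)) (mRel MG [T_d, T_d] [T_di] M (Nat.sub (MG u) (Nat.mod (MG u) M)) (nat_lit 40) z1 u (Nat.mod (MG u) M)) (Nat.ble (nat_lit 309) j)) (Nat.ble (nat_lit 308) j)) (Bool.rec (motive := fun _ => Bool) (Bool.rec (motive := fun _ => Bool) (mRel MG [T_d, T_b, T_di, T_b, T_ai, T_di, T_ai, T_ai, T_z, T_bi] [T_bi, T_ai] M (Nat.sub (MG u) (Nat.mod (MG u) M)) (nat_lit 40) z1 u (Nat.mod (MG u) M)) (mRel MG [T_a, T_a, T_b, T_ai, T_b, T_ai, T_bi, T_a] [T_b] M (Nat.sub (MG u) (Nat.mod (MG u) M)) (nat_lit 40) z1 u (Nat.mod (MG u) M)) (Nat.ble (nat_lit 311) j)) (Bool.rec (motive := fun _ => Bool) (mRel MG [T_di] [T_bi, T_di, T_bi, T_ai, T_b, T_z, T_a, T_a, T_d, T_a, T_bi] M (Nat.sub (MG u) (Nat.mod (MG u) M)) (nat_lit 40) z1 u (Nat.mod (MG u) M)) (mRel MG [T_b, T_di, T_b, T_ai, T_di, T_ai, T_ai, T_z, T_bi, T_a, T_b, T_d] []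 M (Nat.sub (MG u) (Nat.mod (MG u) M)) (nat_lit 40) z1 u (Nat.mod (MG u) M)) (Nat.ble (nat_lit 313) j)) (Nat.ble (nat_lit 312) j)) (Nat.ble (nat_lit 310) j)
noncomputable def dM_71 (j z1 z2 u : ℕ) : Bool :=
  Bool.rec (motive := fun _ => Bool) (dM_69 j z1 z2 u) (dM_70 j z1 z2 u) (Nat.ble (nat_lit 306) j)
noncomputable def dM_72 (j z1 z2 u : ℕ) : Bool :=
  Bool.rec (motive := fun _ => Bool) (dM_68 j z1 z2 u) (dM_71 j z1 z2 u) (Nat.ble (nat_lit 298) j)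
noncomputable def dM_73 (j z1 z2 u : ℕ) : Bool :=
  Bool.rec (motive := fun _ => Bool) (dM_65 j z1 z2 u) (dM_72 j z1 z2 u) (Nat.ble (nat_lit 283) j)
noncomputable def dM_74 (j z1 z2 u : ℕ) : Bool :=
  Bool.rec (motive := fun _ => Bool) (dM_58 j z1 z2 u) (dM_73 j z1 z2 u) (Nat.ble (nat_lit 253) j)
noncomputable def dM_75 (j z1 z2 u : ℕ) : Bool :=
  Bool.rec (motive := fun _ => Bool) (dM_43 j z1 z2 u) (dM_74 j z1 z2 u) (Nat.ble (nat_lit 193) j)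
noncomputable def dM_76 (j z1 z2 u : ℕ) : Bool :=
  Bool.rec (motive := fun _ => Bool) (dM_22 j z1 z2 u) (dM_75 j z1 z2 u) (Nat.ble (nat_lit 107) j)
noncomputable def dM_77 (j z1 z2 u : ℕ) : Bool :=
  Bool.rec (motive := fun _ => Bool) (dM_7 j z1 z2 u) (dM_76 j z1 z2 u) (Nat.ble (nat_lit 33) j)
noncomputable def dM_78 (j z1 z2 u : ℕ) : Bool :=
  Bool.rec (motive := fun _ => Bool) (dM_0 j z1 z2 u) (dM_77 j z1 z2 u) (Nat.ble (nat_lit 6) j)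
noncomputable def chkM (u : ℕ) : Bool :=
  Bool.rec (motive := fun _ => Bool) (band (Nat.ble (Nat.succ (Nat.mod (MG u) M)) u) (dM_78 (Nat.land (MR u) (nat_lit 511)) (Nat.land (Nat.shiftRight (MR u) (nat_lit 9)) (nat_lit 8191)) (Nat.shiftRight (MR u) (nat_lit 22)) u)) true (Nat.ble A (MG u))
noncomputable def chkN (u : ℕ) : Bool :=
  band (chk_a (Nat.land (Nat.shiftRight (RS u) (nat_lit 0)) (nat_lit 63)) u) (band (chk_ai (Nat.land (Nat.shiftRight (RS u) (nat_lit 6)) (nat_lit 63)) u) (band (chk_b (Nat.land (Nat.shiftRight (RS u) (nat_lit 12)) (nat_lit 63)) u) (band (chk_bi (Nat.land (Nat.shiftRight (RS u) (nat_lit 18)) (nat_lit 63)) u) (band (chk_d (Nat.land (Nat.shiftRight (RS u) (nat_lit 24)) (nat_lit 63)) u) (band (chk_di (Nat.land (Nat.shiftRight (RS u) (nat_lit 30)) (nat_lit 63)) u) (band (chk_z (Nat.land (Nat.shiftRight (RS u)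 (nat_lit 36)) (nat_lit 63)) u) (chkM u)))))))
noncomputable def chkP (u : ℕ) : Bool := Bool.rec (motive := fun _ => Bool) (chkN u) true (Nat.ble M u)
noncomputable def liveP (u : ℕ) : Bool := Bool.rec (motive := fun _ => Bool) (Nat.ble A (MG u)) false (Nat.ble M u)
end H35.TCM22B
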